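import Mathlib

/-!
# Pairs of vectors with trivial common stabilizer: basic notions

For a group acting completely reducibly on a finite abelian group we look for two vectors whose
common stabilizer acts trivially.  This file holds the definitions and the completely reducible
generalities (restriction to summands, restriction to normal subgroups).
-/

set_option autoImplicit false

universe u v

namespace CfsgLib.OddBase

variable {X : Type u} [Group X] {V : Type v} [AddCommGroup V] (ρ : X →* AddMonoid.End V)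

/-- A subgroup of the module invariant under the group. -/
def Inv (U : AddSubgroup V) : Prop := ∀ g, ∀ x ∈ U, ρ g x ∈ U

/-- Complete reducibility. -/
def CR : Prop := ∀ U, Inv ρ U → ∃ W, Inv ρ W ∧ U ⊓ W = ⊥ ∧ U ⊔ W = ⊤

/-- Two vectors with common stabilizer acting trivially. -/
def HasBase : Prop := ∃ a b : V, ∀ g, ρ g a = a → ρ g b = b → ρ g = 1

/-- The induction hypothesis: all smaller modules have a base of size two. -/
def SmallBase (n : ℕ) : Prop :=
  ∀ (Y : Type u) [Group Y] [Finite Y], Odd (Nat.card Y) →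
    ∀ (W : Type v) [AddCommGroup W] [Finite W], Nat.card W < n →
      ∀ σ : Y →* AddMonoid.End W, CR σ → HasBase σ

theorem SmallBase.mono {n m : ℕ} (h : SmallBase.{u, v} n) (hm : m ≤ n) : SmallBase.{u, v} m :=
  fun Y _ _ hY W _ _ hW σ hσ => h Y hY W (lt_of_lt_of_le hW hm) σ hσ

theorem mul_apply' (f g : AddMonoid.End V) (x : V) : (f * g) x = f (g x) := rfl

theorem one_apply' (x : V) : (1 : AddMonoid.End V) x = x := rfl

theorem ext_end {f g : AddMonoid.End V} (h : ∀ x, f x = g x) : f = g := DFunLike.ext _ _ h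

theorem map_mul_apply (g h : X) (x : V) : ρ (g * h) x = ρ g (ρ h x) := by rw [map_mul]; rfl

theorem inv_apply (g : X) (x : V) : ρ g⁻¹ (ρ g x) = x := by
  rw [← map_mul_apply, inv_mul_cancel, map_one]; rfl

theorem apply_inv (g : X) (x : V) : ρ g (ρ g⁻¹ x) = x := by
  rw [← map_mul_apply, mul_inv_cancel, map_one]; rfl

theorem apply_injective (g : X) : Function.Injective (ρ g) :=
  fun x y h => by simpa [inv_apply] using congrArg (ρ g⁻¹) h

/-- The action on an invariant subgroup. -/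
def res (U : AddSubgroup V) (h : Inv ρ U) : X →* AddMonoid.End U where
  toFun g := AddMonoidHom.codRestrict ((ρ g).comp U.subtype) U fun x => h g x x.2
  map_one' := ext_end fun x => Subtype.ext (by
    show ρ 1 (x : V) = (x : V)
    rw [map_one]; rfl)
  map_mul' a b := ext_end fun x => Subtype.ext (by
    show ρ (a * b) (x : V) = ρ a (ρ b x)
    rw [map_mul]; rfl)

theorem res_apply (U : AddSubgroup V) (h : Inv ρ U) (g : X) (x : U) :
    (res ρ U h g x : V) = ρ g x := rfl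

theorem cr_res (hcr : CR ρ) (U : AddSubgroup V) (h : Inv ρ U) : CR (res ρ U h) := by
  intro T hT
  have hT' : Inv ρ (T.map U.subtype) := by
    rintro g x ⟨y, hy, rfl⟩
    exact ⟨_, hT g y hy, res_apply ρ U h g y⟩
  obtain ⟨W, hW, hd, hs⟩ := hcr _ hT'
  refine ⟨W.comap U.subtype, fun g x hx => hW g _ hx, ?_, ?_⟩
  · refine (AddSubgroup.eq_bot_iff_forall _).2 fun x hx => Subtype.ext ?_
    have : (x : V) ∈ T.map U.subtype ⊓ W := ⟨⟨x, hx.1, rfl⟩, hx.2⟩
    rw [hd] at this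
    exact this
  · refine eq_top_iff.2 fun x _ => ?_
    have : (x : V) ∈ T.map U.subtype ⊔ W := hs ▸ AddSubgroup.mem_top _
    obtain ⟨_, ⟨t, ht, rfl⟩, w, hw, hx⟩ := AddSubgroup.mem_sup.1 this
    have hwU : w ∈ U := by
      rw [show w = (x : V) - U.subtype t from eq_sub_of_add_eq' hx]
      exact U.sub_mem x.2 t.2
    exact AddSubgroup.mem_sup.2 ⟨t, ht, ⟨w, hwU⟩, hw, Subtype.ext hx⟩

/-- A minimal non-trivial invariant subgroup. -/
def IsMinInv (U : AddSubgroup V) : Prop :=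
  U ≠ ⊥ ∧ Inv ρ U ∧ ∀ T ≤ U, Inv ρ T → T = ⊥ ∨ T = U

theorem exists_isMinInv [Finite V] {U : AddSubgroup V} (hU : U ≠ ⊥) (h : Inv ρ U) :
    ∃ T ≤ U, IsMinInv ρ T := by
  have : Finite (AddSubgroup V) := Finite.of_injective (fun H => (H : Set V)) SetLike.coe_injective
  obtain ⟨T, ⟨hTb, hT, hTU⟩, hmin⟩ := (Set.toFinite {T : AddSubgroup V |
    T ≠ ⊥ ∧ Inv ρ T ∧ T ≤ U}).exists_minimal ⟨U, hU, h, le_rfl⟩
  refine ⟨T, hTU, hTb, hT, fun S hS hSi => or_iff_not_imp_left.2 fun hSb => ?_⟩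
  exact le_antisymm hS (hmin ⟨hSb, hSi, hS.trans hTU⟩ hS)

theorem inv_inf {U W : AddSubgroup V} (hU : Inv ρ U) (hW : Inv ρ W) : Inv ρ (U ⊓ W) :=
  fun g x hx => ⟨hU g x hx.1, hW g x hx.2⟩

theorem inv_sup {U W : AddSubgroup V} (hU : Inv ρ U) (hW : Inv ρ W) : Inv ρ (U ⊔ W) := by
  intro g x hx
  obtain ⟨a, ha, b, hb, rfl⟩ := AddSubgroup.mem_sup.1 hx
  rw [map_add]
  exact AddSubgroup.mem_sup.2 ⟨_, hU g a ha, _, hW g b hb, rfl⟩

theorem inv_iSup {ι : Sort*} {U : ι → AddSubgroup V} (hU : ∀ i, Inv ρ (U i)) :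
    Inv ρ (⨆ i, U i) := by
  intro g x hx
  have : (⨆ i, U i) ≤ (⨆ i, U i).comap (ρ g) :=
    iSup_le fun i y hy => le_iSup U i (hU i g y hy)
  exact this hx

/-- A sum of minimal invariant subgroups is completely reducible. -/
theorem cr_of_sum_minimal [Finite V]
    (h : (⨆ (U : AddSubgroup V) (_ : IsMinInv ρ U), U) = ⊤) : CR ρ := by
  intro U hU
  have : Finite (AddSubgroup V) := Finite.of_injective (fun H => (H : Set V)) SetLike.coe_injective
  obtain ⟨W, ⟨hW, hd⟩, hmax⟩ := (Set.toFinite {W : AddSubgroup V |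
    Inv ρ W ∧ U ⊓ W = ⊥}).exists_maximal
      ⟨⊥, ⟨fun g x hx => by rw [AddSubgroup.mem_bot.1 hx, map_zero]; exact zero_mem _, inf_bot_eq U⟩⟩
  refine ⟨W, hW, hd, eq_top_iff.2 (h ▸ iSup₂_le fun T hT => ?_)⟩
  by_contra hTn
  have hTd : T ⊓ (U ⊔ W) = ⊥ :=
    (hT.2.2 _ inf_le_left (inv_inf ρ hT.2.1 (inv_sup ρ hU hW))).resolve_right
      fun e => hTn (inf_eq_left.1 e)
  have hnew : U ⊓ (W ⊔ T) = ⊥ := by
    refine (AddSubgroup.eq_bot_iff_forall _).2 fun x hx => ?_
    obtain ⟨w, hw, t, ht, rfl⟩ := AddSubgroup.mem_sup.1 hx.2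
    have ht0 : t ∈ T ⊓ (U ⊔ W) := by
      refine ⟨ht, AddSubgroup.mem_sup.2 ⟨w + t, hx.1, -w, W.neg_mem hw, ?_⟩⟩
      abel
    rw [hTd, AddSubgroup.mem_bot] at ht0
    rw [ht0, add_zero] at hx ⊢
    have : w ∈ U ⊓ W := ⟨hx.1, hw⟩
    rw [hd] at this
    exact this
  exact hTn (le_trans (le_trans le_sup_right (hmax ⟨inv_sup ρ hW hT.2.1, hnew⟩ le_sup_left))
    le_sup_right)

/-- A normal subgroup of an irreducible group is completely reducible. -/
theorem cr_comp_of_irreducible [Finite V] (hirr : ∀ U, Inv ρ U → U = ⊥ ∨ U = ⊤)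
    (C : Subgroup X) [C.Normal] : CR (ρ.comp C.subtype) := by
  rcases subsingleton_or_nontrivial V with hs | hn
  · intro U _
    refine ⟨⊤, fun g x _ => AddSubgroup.mem_top _, ?_, sup_top_eq U⟩
    exact (AddSubgroup.eq_bot_iff_forall _).2 fun x _ => Subsingleton.elim _ _
  refine cr_of_sum_minimal _ ((hirr _ fun g x hx => ?_).resolve_left fun h => ?_)
  · let σ := ρ.comp C.subtype
    have hmap : ∀ U, IsMinInv σ U → IsMinInv σ (U.map (ρ g)) := by
      intro U hU
      have hconj : ∀ (c : C) (y : V), ρ c (ρ g y) = ρ g (ρ (g⁻¹ * c * g) y) := fun c y => by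
        rw [← map_mul_apply, ← map_mul_apply]; group
      refine ⟨fun e => hU.1 ?_, fun c y hy => ?_, fun T hTU hT => ?_⟩
      · exact (AddSubgroup.map_eq_bot_iff_of_injective _ (apply_injective ρ g)).1 e
      · obtain ⟨z, hz, rfl⟩ := hy
        refine ⟨ρ (g⁻¹ * c * g) z, hU.2.1 ⟨g⁻¹ * c * g, ?_⟩ z hz, (hconj c z).symm⟩
        simpa using (‹C.Normal›.conj_mem c c.2 g⁻¹)
      · have hcomap : Inv σ (T.comap (ρ g)) := fun c y hy => by
          show ρ g (ρ c y) ∈ T
          have : ρ g (ρ c y) = ρ (g * c * g⁻¹) (ρ g y) := by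
            rw [← map_mul_apply, ← map_mul_apply]; group
          rw [this]
          exact hT ⟨g * c * g⁻¹, ‹C.Normal›.conj_mem c c.2 g⟩ _ hy
        have hle : T.comap (ρ g) ≤ U := fun y hy => by
          obtain ⟨z, hz, e⟩ := hTU hy
          exact apply_injective ρ g e ▸ hz
        have hback : (T.comap (ρ g)).map (ρ g) = T := by
          refine le_antisymm (AddSubgroup.map_comap_le _ _) fun y hy => ?_
          exact ⟨ρ g⁻¹ y, show ρ g (ρ g⁻¹ y) ∈ T by rw [apply_inv]; exact hy, apply_inv ρ g y⟩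
        rcases hU.2.2 _ hle hcomap with e | e
        · left; rw [← hback, e]; exact AddSubgroup.map_bot _
        · right; rw [← hback, e]
    have : (⨆ (U : AddSubgroup V) (_ : IsMinInv σ U), U) ≤
        (⨆ (U : AddSubgroup V) (_ : IsMinInv σ U), U).comap (ρ g) := by
      refine iSup₂_le fun U hU y hy => ?_
      exact le_iSup₂ (f := fun U (_ : IsMinInv σ U) => U) _ (hmap U hU) ⟨y, hy, rfl⟩
    exact this hx
  · obtain ⟨T, -, hT⟩ := exists_isMinInv (ρ.comp C.subtype) (U := ⊤) top_ne_bot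
      fun g x _ => AddSubgroup.mem_top _
    exact hT.1 (eq_bot_iff.2 (h ▸ le_iSup₂ (f := fun U (_ : IsMinInv _ U) => U) T hT))

/-- The decomposable case. -/
theorem hasBase_of_sup {U W : AddSubgroup V} (hU : Inv ρ U) (hW : Inv ρ W) (hs : U ⊔ W = ⊤)
    (hd : U ⊓ W = ⊥) (h1 : HasBase (res ρ U hU)) (h2 : HasBase (res ρ W hW)) : HasBase ρ := by
  obtain ⟨a, b, h1⟩ := h1
  obtain ⟨c, d, h2⟩ := h2
  refine ⟨(a : V) + c, (b : V) + d, fun g hg hg' => ?_⟩
  have split : ∀ (x : U) (y : W), ρ g ((x : V) + y) = x + y →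
      res ρ U hU g x = x ∧ res ρ W hW g y = y := fun x y e => by
    rw [map_add] at e
    have e' : ρ g (x : V) - x = y - ρ g (y : V) := by
      rw [sub_eq_sub_iff_add_eq_add, e]; abel
    have hm : ρ g (x : V) - x ∈ U ⊓ W :=
      ⟨U.sub_mem (hU g x x.2) x.2, e' ▸ W.sub_mem y.2 (hW g y y.2)⟩
    rw [hd, AddSubgroup.mem_bot] at hm
    exact ⟨Subtype.ext (sub_eq_zero.1 hm), Subtype.ext (sub_eq_zero.1 (e'.symm.trans hm)).symm⟩
  have eU := h1 g (split a c hg).1 (split b d hg').1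
  have eW := h2 g (split a c hg).2 (split b d hg').2
  refine ext_end fun x => ?_
  obtain ⟨p, hp, q, hq, rfl⟩ := AddSubgroup.mem_sup.1 (hs ▸ AddSubgroup.mem_top x : x ∈ U ⊔ W)
  rw [map_add, one_apply']
  have e1 := congrArg (fun f : AddMonoid.End U => ((f ⟨p, hp⟩ : U) : V)) eU
  have e2 := congrArg (fun f : AddMonoid.End W => ((f ⟨q, hq⟩ : W) : V)) eW
  simp only [res_apply, one_apply'] at e1 e2
  rw [e1, e2]

end CfsgLib.OddBase
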