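import Cfsg.Agent.Lib.OddBase.Perm

/-!
# Two vectors for an imprimitive group of odd order
-/

set_option autoImplicit false

universe u

namespace CfsgLib.OddBase

variable {X : Type u} [Group X] {V : Type u} [AddCommGroup V] (ρ : X →* AddMonoid.End V)

/-- An element of odd order whose square acts trivially acts trivially. -/
theorem rho_eq_one_of_sq [Finite X] (hX : Odd (Nat.card X)) {g : X} (h : ρ g * ρ g = 1) :
    ρ g = 1 := by
  obtain ⟨k, hk⟩ := hX
  have h1 : ρ g ^ Nat.card X = 1 := by rw [← map_pow, pow_card_eq_one', map_one]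
  rw [hk, pow_succ, pow_mul, pow_two, h, one_pow, one_mul] at h1
  exact h1

/-- Two inequivalent regular pairs. -/
theorem exists_two_pairs [Finite X] [Nontrivial V] (hX : Odd (Nat.card X)) (hb : HasBase ρ) :
    ∃ p : Bool → V × V, ∀ (c c' : Bool) (g : X),
      ρ g (p c).1 = (p c').1 → ρ g (p c).2 = (p c').2 → c = c' ∧ ρ g = 1 := by
  obtain ⟨a, b, hab⟩ := hb
  by_cases he : a = b
  · obtain ⟨x, hx, hstab⟩ : ∃ x : V, x ≠ 0 ∧ ∀ g, ρ g x = x → ρ g = 1 := by
      by_cases ha : a = 0
      · obtain ⟨x, hx⟩ := exists_ne (0 : V)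
        exact ⟨x, hx, fun g _ => hab g (by rw [ha, map_zero]) (by rw [← he, ha, map_zero])⟩
      · exact ⟨a, ha, fun g h => hab g h (he ▸ h)⟩
    refine ⟨fun c => if c then (x, 0) else (0, x), ?_⟩
    intro c c' g h1 h2
    rcases c <;> rcases c' <;> simp only [Bool.false_eq_true, if_false, if_true] at h1 h2
    · exact ⟨rfl, hstab g h2⟩
    · exact absurd (apply_injective ρ g (h2.trans (map_zero _).symm)) hx
    · exact absurd (apply_injective ρ g (h1.trans (map_zero _).symm)) hx
    · exact ⟨rfl, hstab g h1⟩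
  · refine ⟨fun c => if c then (a, b) else (b, a), ?_⟩
    have hswap : ∀ g, ρ g a = b → ρ g b = a → False := fun g h1 h2 => by
      have h3 : ρ g * ρ g = 1 := by
        rw [← map_mul]
        exact hab _ (by rw [map_mul_apply, h1, h2]) (by rw [map_mul_apply, h2, h1])
      rw [rho_eq_one_of_sq ρ hX h3] at h1
      exact he h1
    intro c c' g h1 h2
    rcases c <;> rcases c' <;> simp only [Bool.false_eq_true, if_false, if_true] at h1 h2
    · exact ⟨rfl, hab g h2 h1⟩
    · exact (hswap g h2 h1).elim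
    · exact (hswap g h1 h2).elim
    · exact ⟨rfl, hab g h1 h2⟩

/-- The imprimitive case. -/
theorem hasBase_of_blocks [Finite X] [Finite V] (hX : Odd (Nat.card X))
    (IH : SmallBase.{u, u} (Nat.card V)) (hirr : ∀ U, Inv ρ U → U = ⊥ ∨ U = ⊤)
    {ι : Type u} [Fintype ι] [DecidableEq ι] (hι : 2 ≤ Fintype.card ι) (e : ι → AddMonoid.End V)
    (hidem : ∀ i, e i * e i = e i) (horth : ∀ i j, i ≠ j → e i * e j = 0) (hne : ∀ i, e i ≠ 0)
    (hsum : ∑ i, e i = 1) (σ : X →* Equiv.Perm ι) (hσ : ∀ g i, ρ g * e i = e (σ g i) * ρ g)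
    (i₀ : ι) (htr : ∀ i, ∃ g, σ g i₀ = i) : HasBase ρ := by
  classical
  have hσ' : ∀ g i x, ρ g (e i x) = e (σ g i) (ρ g x) := fun g i x =>
    congrArg (fun f : AddMonoid.End V => f x) (hσ g i)
  have hid : ∀ i x, e i (e i x) = e i x := fun i x =>
    congrArg (fun f : AddMonoid.End V => f x) (hidem i)
  have hor : ∀ i j x, i ≠ j → e i (e j x) = 0 := fun i j x h =>
    congrArg (fun f : AddMonoid.End V => f x) (horth i j h)
  have hdec : ∀ x, ∑ i, e i x = x := fun x => by
    have := congrArg (fun f : AddMonoid.End V => f x) hsum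
    simp only [AddMonoid.End.coe_one, id_eq] at this
    conv_rhs => rw [← this]
    exact (AddMonoidHom.finsetSum_apply e Finset.univ x).symm
  let W : AddSubgroup V := AddMonoidHom.range (e i₀)
  have hWfix : ∀ x ∈ W, e i₀ x = x := by rintro _ ⟨y, rfl⟩; exact hid i₀ y
  have hWne : ∀ i, ∃ x, e i x ≠ 0 := fun i => by
    by_contra h
    push Not at h
    exact hne i (ext_end h)
  choose z hz using hWne
  haveI : Nontrivial W := ⟨⟨⟨_, z i₀, rfl⟩, 0, fun h => hz i₀ (congrArg Subtype.val h)⟩⟩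
  obtain ⟨j, hj⟩ := Fintype.exists_ne_of_one_lt_card (by omega : 1 < Fintype.card ι) i₀
  have hWlt : Nat.card W < Nat.card V := by
    have hne : W ≠ ⊤ := by
      intro h
      have := hWfix (e j (z j)) (h ▸ AddSubgroup.mem_top _)
      rw [hor _ _ _ (Ne.symm hj)] at this
      exact hz j this.symm
    exact lt_of_le_of_ne (AddSubgroup.card_le_card_addGroup W)
      fun h => hne (AddSubgroup.eq_top_of_card_eq W h)
  have hιV : Fintype.card ι + 1 ≤ Nat.card V := by
    let F : Option ι → V := fun o => o.elim 0 fun i => e i (z i)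
    have hF : Function.Injective F := by
      intro a b h
      rcases a with _ | i <;> rcases b with _ | k
      · rfl
      · exact absurd h.symm (hz k)
      · exact absurd h (hz i)
      · by_cases hik : i = k
        · rw [hik]
        · have h' := congrArg (e i) h
          simp only [F, Option.elim, hid, hor _ _ _ hik] at h'
          exact absurd h' (hz i)
    have := Nat.card_le_card_of_injective F hF
    rwa [Nat.card_eq_fintype_card, Fintype.card_option] at this
  -- the top group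
  obtain ⟨R, hR⟩ := exists_subset (Fintype.card ι) (IH.mono hιV) X hX ι
    (Nat.card_eq_fintype_card).le σ
  -- the stabilizer of the first block
  let H : Subgroup X :=
    { carrier := {g | σ g i₀ = i₀}
      one_mem' := by simp
      mul_mem' := fun {g h} hg hh => by
        show σ (g * h) i₀ = i₀
        rw [map_mul, Equiv.Perm.mul_apply, show σ h i₀ = i₀ from hh]; exact hg
      inv_mem' := fun {g} hg => by
        show σ g⁻¹ i₀ = i₀
        rw [map_inv, Equiv.Perm.inv_eq_iff_eq]
        exact (show σ g i₀ = i₀ from hg).symm }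
  have hHW : Inv (ρ.comp H.subtype) W := by
    rintro h x ⟨y, rfl⟩
    have h1 := hσ' h i₀ y
    rw [show σ (h : X) i₀ = i₀ from h.2] at h1
    exact ⟨ρ h y, h1.symm⟩
  have hirrW : ∀ U, Inv (res (ρ.comp H.subtype) W hHW) U → U = ⊥ ∨ U = ⊤ := by
    intro U hU
    refine or_iff_not_imp_left.2 fun hUb => ?_
    let T : AddSubgroup V := ⨆ g : X, (U.map W.subtype).map (ρ g)
    have hT : Inv ρ T := by
      intro k x hx
      have : T ≤ T.comap (ρ k) := iSup_le fun g y hy => by
        obtain ⟨u, hu, rfl⟩ := hy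
        exact le_iSup (fun g : X => (U.map W.subtype).map (ρ g)) (k * g)
          ⟨u, hu, map_mul_apply ρ k g u⟩
      exact this hx
    have hTtop : T = ⊤ := by
      refine (hirr T hT).resolve_left fun h => hUb ((AddSubgroup.eq_bot_iff_forall _).2 fun u hu => ?_)
      have : (u : V) ∈ T := le_iSup (fun g : X => (U.map W.subtype).map (ρ g)) 1
        ⟨u, ⟨u, hu, rfl⟩, by rw [map_one]; rfl⟩
      rw [h] at this
      exact Subtype.ext this
    have hle : T ≤ (U.map W.subtype).comap (e i₀) := iSup_le fun g y hy => by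
      obtain ⟨_, ⟨u, hu, rfl⟩, rfl⟩ := hy
      show e i₀ (ρ g (u : V)) ∈ U.map W.subtype
      by_cases hg : σ g i₀ = i₀
      · refine ⟨_, hU ⟨g, hg⟩ u hu, ?_⟩
        show ρ g (u : V) = _
        rw [← hWfix _ u.2, hσ', hg, hid]
      · rw [← hWfix _ u.2, hσ', hor _ _ _ (Ne.symm hg)]
        exact zero_mem _
    refine eq_top_iff.2 fun x _ => ?_
    obtain ⟨u, hu, hux⟩ := hle (hTtop ▸ AddSubgroup.mem_top (x : V))
    have hux' : (u : V) = e i₀ (x : V) := hux
    rw [hWfix _ x.2] at hux'
    exact Subtype.ext hux' ▸ hu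
  have hHodd : Odd (Nat.card H) := hX.of_dvd_nat H.card_subgroup_dvd_card
  have hcr : CR (res (ρ.comp H.subtype) W hHW) := by
    intro U hU
    rcases hirrW U hU with rfl | rfl
    · exact ⟨⊤, fun g x _ => AddSubgroup.mem_top _, bot_inf_eq _, bot_sup_eq _⟩
    · exact ⟨⊥, fun g x hx => by rw [AddSubgroup.mem_bot.1 hx, map_zero]; exact zero_mem _,
        inf_bot_eq _, sup_bot_eq _⟩
  obtain ⟨p, hp⟩ := exists_two_pairs _ hHodd (IH H hHodd W hWlt _ hcr)
  choose t ht using htr
  let col : ι → Bool := fun i => decide (i ∈ R)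
  let v : V := ∑ i, ρ (t i) ((p (col i)).1 : W)
  let w : V := ∑ i, ρ (t i) ((p (col i)).2 : W)
  have comp : ∀ (f : ι → W) i, e i (∑ k, ρ (t k) (f k : V)) = ρ (t i) (f i : V) := by
    intro f i
    rw [map_sum, Finset.sum_eq_single i]
    · rw [← hWfix _ (f i).2, hσ', ht, hid]
    · intro k _ hk
      rw [← hWfix _ (f k).2, hσ', ht, hor _ _ _ (Ne.symm hk)]
    · exact fun h => absurd (Finset.mem_univ i) h
  refine ⟨v, w, fun g hgv hgw => ?_⟩
  have key : ∀ i, col i = col (σ g i) ∧
      ∀ x ∈ W, ρ g (ρ (t i) x) = ρ (t (σ g i)) x := by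
    intro i
    have hh : σ ((t (σ g i))⁻¹ * g * t i) i₀ = i₀ := by
      rw [map_mul, map_mul, map_inv, Equiv.Perm.mul_apply, Equiv.Perm.mul_apply, ht,
        Equiv.Perm.inv_eq_iff_eq, ht]
    have h1 : ∀ (f : ι → W), ρ g (∑ k, ρ (t k) (f k : V)) = ∑ k, ρ (t k) (f k : V) →
        res (ρ.comp H.subtype) W hHW ⟨_, hh⟩ (f i) = f (σ g i) := fun f hf => Subtype.ext (by
      show ρ ((t (σ g i))⁻¹ * g * t i) (f i : V) = f (σ g i)
      rw [map_mul_apply, map_mul_apply, ← comp f i, hσ', hf, comp, inv_apply])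
    obtain ⟨hc, hone⟩ := hp (col i) (col (σ g i)) ⟨_, hh⟩
      (h1 (fun k => (p (col k)).1) hgv) (h1 (fun k => (p (col k)).2) hgw)
    refine ⟨hc, fun x hx => ?_⟩
    have := congrArg (fun f : AddMonoid.End W => ((f ⟨x, hx⟩ : W) : V)) hone
    simp only [res_apply, MonoidHom.comp_apply, Subgroup.coe_subtype, one_apply'] at this
    rw [map_mul_apply, map_mul_apply] at this
    conv_rhs => rw [← this]
    rw [apply_inv]
  have hσg : σ g = 1 := hR g fun i => by
    have := (key i).1
    simp only [col, decide_eq_decide] at this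
    exact this
  refine ext_end fun x => ?_
  rw [one_apply', ← hdec x, map_sum]
  refine Finset.sum_congr rfl fun i _ => ?_
  obtain ⟨y, hy, hyi⟩ : ∃ y ∈ W, ρ (t i) y = e i x := by
    refine ⟨e i₀ (ρ (t i)⁻¹ x), ⟨_, rfl⟩, ?_⟩
    rw [hσ', ht, apply_inv]
  rw [← hyi, (key i).2 y hy, hσg, Equiv.Perm.one_apply]

end CfsgLib.OddBase
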