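import Cfsg.Agent.Lib.LinearPPart.Split

/-!
# Symplectic bases and normalized pairs of twisted operators
-/

set_option autoImplicit false

namespace CfsgLib.OddBase

open CfsgLib.LinearPPart

/-- A non-degenerate alternating form over a prime field has a hyperbolic basis. -/
theorem exists_pairs {q : ℕ} [hq : Fact q.Prime] : ∀ (W : Type*) [AddCommGroup W] [Finite W]
    (c : W →+ W →+ ZMod q), (∀ w, c w w = 0) → (∀ w, (∀ x, c w x = 0) → w = 0) →
    ∃ (s : ℕ) (e f : Fin s → W), (∀ i, c (e i) (f i) = 1) ∧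
      (∀ i j, c (e i) (e j) = 0) ∧ (∀ i j, c (f i) (f j) = 0) ∧
      (∀ i j, i ≠ j → c (e i) (f j) = 0) ∧
      AddSubmonoid.closure (Set.range e ∪ Set.range f) = ⊤ := by
  intro W _ _ c halt hnd
  induction h : Nat.card W using Nat.strong_induction_on generalizing W with
  | _ n ih =>
  by_cases hW : Subsingleton W
  · exact ⟨0, Fin.elim0, Fin.elim0, fun i => i.elim0, fun i => i.elim0, fun i => i.elim0,
      fun i => i.elim0, eq_top_iff.2 fun x _ => by rw [Subsingleton.elim x 0]; exact zero_mem _⟩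
  rw [not_subsingleton_iff_nontrivial] at hW
  obtain ⟨v, hv⟩ := exists_ne (0 : W)
  obtain ⟨u, hvu⟩ := exists_pair c halt hnd hv
  have hlt : Nat.card (perp c v u) < n := by
    rw [← h, card_perp c halt hvu]
    exact lt_mul_of_one_lt_left Nat.card_pos (Nat.one_lt_pow two_ne_zero hq.out.one_lt)
  obtain ⟨s, e, f, hef, hee, hff, hoff, hspan⟩ := ih _ hlt (perp c v u) (perpForm c v u)
    (fun w => halt _)
    (fun w hw => Subtype.ext (perp_nondeg c halt hnd hvu w.2 fun x hx => hw ⟨x, hx⟩)) rfl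
  have hv0 : ∀ w : perp c v u, c v (w : W) = 0 := fun w => (mem_perp.mp w.2).1
  have hu0 : ∀ w : perp c v u, c u (w : W) = 0 := fun w => (mem_perp.mp w.2).2
  have hv0' : ∀ w : perp c v u, c (w : W) v = 0 := fun w => by rw [form_anti c halt v, hv0, neg_zero]
  have hu0' : ∀ w : perp c v u, c (w : W) u = 0 := fun w => by rw [form_anti c halt u, hu0, neg_zero]
  refine ⟨s + 1, Fin.cons v fun i => (e i : W), Fin.cons u fun i => (f i : W), ?_, ?_, ?_, ?_, ?_⟩
  · intro i
    refine Fin.cases ?_ (fun i => ?_) i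
    · simpa using hvu
    · simpa [perpForm_apply] using hef i
  · intro i j
    refine Fin.cases ?_ (fun i => ?_) i <;> refine Fin.cases ?_ (fun j => ?_) j <;>
      simp only [Fin.cons_zero, Fin.cons_succ]
    exacts [halt v, hv0 _, hv0' _, hee i j]
  · intro i j
    refine Fin.cases ?_ (fun i => ?_) i <;> refine Fin.cases ?_ (fun j => ?_) j <;>
      simp only [Fin.cons_zero, Fin.cons_succ]
    exacts [halt u, hu0 _, hu0' _, hff i j]
  · intro i j
    refine Fin.cases ?_ (fun i => ?_) i <;> refine Fin.cases ?_ (fun j => ?_) j <;>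
      simp only [Fin.cons_zero, Fin.cons_succ] <;> intro hij
    exacts [absurd rfl hij, hv0 _, hu0' _, hoff i j fun e => hij (by rw [e])]
  · refine eq_top_iff.2 fun w _ => ?_
    set S := AddSubmonoid.closure
      (Set.range (Fin.cons v fun i => (e i : W)) ∪ Set.range (Fin.cons u fun i => (f i : W)))
    obtain ⟨a, b, hab⟩ := sub_mem_perp c halt hvu w
    have hv' : v ∈ S := AddSubmonoid.subset_closure (Or.inl ⟨0, rfl⟩)
    have hu' : u ∈ S := AddSubmonoid.subset_closure (Or.inr ⟨0, rfl⟩)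
    have hperp : ∀ x : perp c v u, (x : W) ∈ S := fun x => by
      have hx : x ∈ AddSubmonoid.closure (Set.range e ∪ Set.range f) := hspan ▸ trivial
      induction hx using AddSubmonoid.closure_induction with
      | mem y hy =>
        rcases hy with ⟨i, rfl⟩ | ⟨i, rfl⟩
        · exact AddSubmonoid.subset_closure (Or.inl ⟨i.succ, rfl⟩)
        · exact AddSubmonoid.subset_closure (Or.inr ⟨i.succ, rfl⟩)
      | zero => exact zero_mem _
      | add y z _ _ hy hz => exact add_mem hy hz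
    have := add_mem (hperp ⟨_, hab⟩) (add_mem (nsmul_mem hv' a) (nsmul_mem hu' b))
    simpa using this

variable {F : Type*} [Field F] [Finite F] {V : Type*} [AddCommGroup V] (σ : F →+* AddMonoid.End V)
  {q : ℕ} [hq : Fact q.Prime]

/-- From a twisted pair, a pair whose first member has order `q`. -/
theorem exists_normal_pair (hq2 : q ≠ 2) {ζ : F} (hζ : IsPrimitiveRoot ζ q)
    {u v : AddMonoid.End V} (hσu : ∀ r, Commute (σ r) u) (hσv : ∀ r, Commute (σ r) v)
    (huv : u * v = σ ζ * (v * u)) {α β : F} (hα : α ≠ 0) (hβ : β ≠ 0) (hu : u ^ q = σ β)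
    (hv : v ^ q = σ α) :
    ∃ (x z : AddMonoid.End V) (δ : F), δ ≠ 0 ∧ x ^ q = 1 ∧ z ^ q = σ δ ∧ x * z = σ ζ * (z * x) ∧
      (∀ r, Commute (σ r) x) ∧ (∀ r, Commute (σ r) z) ∧
      (∀ g, (∀ r, Commute g (σ r)) → Commute g u → Commute g v → Commute g x ∧ Commute g z) ∧
      ∀ P : AddMonoid.End V → Prop, (∀ r, P (σ r)) → (∀ a b, P a → P b → P (a * b)) →
        ((P u → P v → P x ∧ P z) ∧ (P x → P z → P u ∧ P v)) := by
  rcases exists_root hζ hα hβ with ⟨γ, hγ, hγq⟩ | ⟨i, γ, hγ, hγq⟩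
  · refine ⟨σ γ⁻¹ * u, v, α, hα, ?_, hv, ?_, fun r => ((Commute.all r _).map σ).mul_right (hσu r),
      hσv, fun g hg hgu hgv => ⟨(hg _).mul_right hgu, hgv⟩, fun P hP hm => ⟨?_, ?_⟩⟩
    · rw [(hσu _).mul_pow, ← map_pow, hu, ← map_mul, inv_pow, hγq, inv_mul_cancel₀ hβ, map_one]
    · rw [mul_assoc (σ γ⁻¹) u v, huv, ← mul_assoc (σ γ⁻¹) (σ ζ), ← map_mul, mul_comm γ⁻¹, map_mul,
        mul_assoc, ← mul_assoc (σ γ⁻¹) v u, (hσv γ⁻¹).eq, mul_assoc v]
    · exact fun h1 h2 => ⟨hm _ _ (hP _) h1, h2⟩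
    · intro h1 h2
      refine ⟨?_, h2⟩
      have := hm _ _ (hP γ) h1
      rwa [← mul_assoc, ← map_mul, mul_inv_cancel₀ hγ, map_one, one_mul] at this
  · have hq1 : 1 ≤ q := hq.out.one_le
    have hcomm : u ^ i * v = σ (ζ ^ i) * (v * u ^ i) := by
      clear hγq
      induction i with
      | zero => simp
      | succ i ih =>
        rw [pow_succ' u, mul_assoc, ih, ← mul_assoc u, ← (hσu _).eq, mul_assoc (σ (ζ ^ i)),
          ← mul_assoc u v, huv, pow_succ ζ, map_mul]
        simp only [mul_assoc]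
    set x := σ γ⁻¹ * (v * u ^ i) with hx
    have hσx : ∀ r, Commute (σ r) x := fun r =>
      ((Commute.all r _).map σ).mul_right ((hσv r).mul_right ((hσu r).pow_right i))
    have hux : u * x = σ ζ * (x * u) := by
      rw [hx, ← mul_assoc u, ← (hσu _).eq, mul_assoc (σ γ⁻¹), ← mul_assoc u v, huv]
      simp only [mul_assoc, ← pow_succ, ← pow_succ']
      rw [← mul_assoc (σ γ⁻¹), ← map_mul, mul_comm, map_mul, mul_assoc]
    have hpx : ∀ n : ℕ, u ^ n * x = σ (ζ ^ n) * (x * u ^ n) := by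
      intro n
      induction n with
      | zero => simp
      | succ n ih =>
        rw [pow_succ' u, mul_assoc, ih, ← mul_assoc u, ← (hσu _).eq, mul_assoc (σ (ζ ^ n)),
          ← mul_assoc u x, hux, pow_succ ζ, map_mul]
        simp only [mul_assoc]
    refine ⟨x, u ^ (q - 1), β ^ (q - 1), pow_ne_zero _ hβ, ?_, ?_, ?_, hσx,
      fun r => (hσu r).pow_right _, ?_, fun P hP hm => ?_⟩
    · have hvu : ∀ r, Commute (σ r) (v * u ^ i) := fun r => (hσv r).mul_right ((hσu r).pow_right i)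
      have hdvd : q ∣ q.choose 2 := hq.out.dvd_choose_self two_ne_zero
        (lt_of_le_of_ne hq.out.two_le (Ne.symm hq2))
      rw [hx, (hvu _).mul_pow, twisted_mul_pow σ (fun r => (hσu r).pow_right i) hσv hcomm q,
        ← pow_mul ζ, (hζ.pow_eq_one_iff_dvd _).mpr (dvd_mul_of_dvd_right hdvd i), map_one, one_mul,
        hv, ← pow_mul u, mul_comm i q, pow_mul u, hu, ← map_pow, ← map_pow, ← map_mul, ← map_mul,
        inv_pow, hγq, inv_mul_cancel₀ (mul_ne_zero hα (pow_ne_zero i hβ)), map_one]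
    · rw [← pow_mul, mul_comm, pow_mul, hu, map_pow]
    · rw [hpx, ← mul_assoc, ← map_mul, ← pow_succ', Nat.sub_add_cancel hq1, hζ.pow_eq_one, map_one,
        one_mul]
    · exact fun g hg hgu hgv => ⟨(hg _).mul_right (hgv.mul_right (hgu.pow_right i)), hgu.pow_right _⟩
    · have hpow : ∀ a : AddMonoid.End V, P a → ∀ n, P (a ^ n) := fun a ha n => by
        induction n with
        | zero => rw [pow_zero, ← map_one σ]; exact hP 1
        | succ n ih => rw [pow_succ]; exact hm _ _ ih ha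
      refine ⟨fun h1 h2 => ⟨hm _ _ (hP _) (hm _ _ h2 (hpow _ h1 i)), hpow _ h1 _⟩, fun h1 h2 => ?_⟩
      have hu' : P u := by
        have h3 := hm _ _ (hP (β⁻¹ ^ (q - 2))) (hpow _ h2 (q - 1))
        rwa [← pow_mul, show (q - 1) * (q - 1) = q * (q - 2) + 1 by
          obtain ⟨k, rfl⟩ : ∃ k, q = k + 2 := ⟨q - 2, by have := hq.out.two_le; omega⟩
          simp only [Nat.add_sub_cancel, show k + 2 - 1 = k + 1 by omega]
          ring, pow_succ, pow_mul, hu, ← mul_assoc, ← map_pow, ← map_mul, ← mul_pow,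
          inv_mul_cancel₀ hβ, one_pow, map_one, one_mul] at h3
      refine ⟨hu', ?_⟩
      have h4 := hm _ _ (hm _ _ (hP (γ * β⁻¹ ^ i)) h1) (hpow _ hu' ((q - 1) * i))
      have e : σ (γ * β⁻¹ ^ i) * x * u ^ ((q - 1) * i) = v := by
        rw [hx, ← mul_assoc (σ (γ * β⁻¹ ^ i)), ← map_mul, mul_assoc (σ _), mul_assoc v, ← pow_add,
          show i + (q - 1) * i = q * i by rw [add_comm, ← Nat.succ_mul,
            Nat.succ_eq_add_one, Nat.sub_add_cancel hq1], pow_mul, hu, ← map_pow, ← (hσv _).eq,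
          ← mul_assoc, ← map_mul, show γ * β⁻¹ ^ i * γ⁻¹ * β ^ i = 1 by
            rw [mul_comm γ, mul_inv_cancel_right₀ hγ, ← mul_pow, inv_mul_cancel₀ hβ, one_pow],
          map_one, one_mul]
      rwa [e] at h4

end CfsgLib.OddBase
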