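import Mathlib

/-!
# An additive map of odd order preserving a path of sums is the identity
-/

set_option autoImplicit false

namespace CfsgLib.OddBase

variable {q s : ℕ}

/-- The coordinate vector. -/
def basisVec (i : Fin s) : Fin s → ZMod q := Pi.single i 1

/-- Basis vectors and sums of two neighbours. -/
def pathSet (q s : ℕ) : Set (Fin s → ZMod q) :=
  {c | (∃ i, c = basisVec i) ∨
    ∃ i j : Fin s, (j : ℕ) = (i : ℕ) + 1 ∧ c = basisVec i + basisVec j}

theorem basisVec_apply (i k : Fin s) : (basisVec i : Fin s → ZMod q) k = if k = i then 1 else 0 := by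
  simp [basisVec, Pi.single_apply]

theorem basisVec_injective [Fact (1 < q)] : Function.Injective (basisVec : Fin s → Fin s → ZMod q) := by
  intro i j h
  by_contra hij
  have := congrFun h i
  simp [basisVec_apply, hij] at this

theorem pathSet_apply {c : Fin s → ZMod q} (hc : c ∈ pathSet q s) :
    (∀ k, c k = 0 ∨ c k = 1) ∧ ∃ k, c k = 1 := by
  rcases hc with ⟨i, rfl⟩ | ⟨i, j, hij, rfl⟩
  · refine ⟨fun k => ?_, i, by simp [basisVec_apply]⟩
    by_cases h : k = i <;> simp [basisVec_apply, h]
  · have hne : i ≠ j := fun h => by rw [h] at hij; omega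
    refine ⟨fun k => ?_, i, by simp [basisVec_apply, hne]⟩
    by_cases h : k = i
    · simp [basisVec_apply, h, hne]
    · by_cases h' : k = j <;> simp [basisVec_apply, h, h', Ne.symm hne]

theorem eq_one_of_path [Fact q.Prime] (hq : 3 ≤ q)
    (h : (Fin s → ZMod q) →+ (Fin s → ZMod q)) {o : ℕ} (ho : Odd o) (hord : h^[o] = id)
    (hS : ∀ c, c ∈ pathSet q s → h c ∈ pathSet q s) (c : Fin s → ZMod q) : h c = c := by
  classical
  haveI : Fact (1 < q) := ⟨by omega⟩
  haveI : NeZero q := ⟨by omega⟩
  have h2 : (2 : ZMod q) ≠ 0 := by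
    intro e
    have := (ZMod.natCast_eq_zero_iff 2 q).1 (by exact_mod_cast e)
    have := Nat.le_of_dvd two_pos this
    omega
  have h21 : (1 + 1 : ZMod q) ≠ 1 := fun e => one_ne_zero (by linear_combination e)
  have h20 : (1 + 1 : ZMod q) ≠ 0 := fun e => h2 (by linear_combination e)
  have hinj : Function.Injective h := by
    obtain ⟨k, rfl⟩ := ho
    rw [show 2 * k + 1 = (2 * k).succ from rfl, Function.iterate_succ] at hord
    exact Function.Injective.of_comp (f := h^[2 * k]) (hord ▸ Function.injective_id)
  have hbij : Set.BijOn h (pathSet q s) (pathSet q s) :=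
    ((Set.toFinite _).injOn_iff_bijOn_of_mapsTo hS).1 hinj.injOn
  -- a basis vector is not a sum
  have hbasic : ∀ i, ∀ a ∈ pathSet q s, ∀ b ∈ pathSet q s,
      (basisVec i : Fin s → ZMod q) ≠ a + b := by
    intro i a ha b hb e
    obtain ⟨ha1, k, hk⟩ := pathSet_apply ha
    obtain ⟨hb1, l, hl⟩ := pathSet_apply hb
    have ek := congrFun e k
    have el := congrFun e l
    simp only [Pi.add_apply, hk, hl, basisVec_apply] at ek el
    have hki : k = i := by
      by_contra hne
      rw [if_neg hne] at ek
      rcases hb1 k with e' | e' <;> rw [e'] at ek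
      · simp at ek
      · exact h20 ek.symm
    have hli : l = i := by
      by_contra hne
      rw [if_neg hne] at el
      rcases ha1 l with e' | e' <;> rw [e'] at el
      · simp at el
      · exact h20 el.symm
    have hkl : b k = 1 := by rw [hki, ← hli]; exact hl
    rw [if_pos hki, hkl] at ek
    exact h21 ek.symm
  have hbase : ∀ i : Fin s, ∃ j, h (basisVec i) = basisVec j := by
    intro i
    rcases hS _ (Or.inl ⟨i, rfl⟩) with hj | ⟨j, k, hjk, e⟩
    · exact hj
    · obtain ⟨a, ha, hae⟩ := hbij.surjOn (Or.inl ⟨j, rfl⟩ : basisVec j ∈ pathSet q s)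
      obtain ⟨b, hb, hbe⟩ := hbij.surjOn (Or.inl ⟨k, rfl⟩ : basisVec k ∈ pathSet q s)
      exact absurd (hinj (by rw [map_add, hae, hbe, e] : h (basisVec i) = h (a + b))) (hbasic i a ha b hb)
  choose π hπ using hbase
  have hπinj : Function.Injective π := fun a b e =>
    basisVec_injective (hinj (by rw [hπ, hπ, e]))
  have hstep : ∀ i j : Fin s, (j : ℕ) = (i : ℕ) + 1 →
      (π j : ℕ) = π i + 1 ∨ (π i : ℕ) = π j + 1 := by
    intro i j hij
    have hne : π i ≠ π j := fun e => by have := congrArg Fin.val (hπinj e); omega
    have hm := hS _ (Or.inr ⟨i, j, hij, rfl⟩)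
    rw [map_add, hπ, hπ] at hm
    rcases hm with ⟨k, hk⟩ | ⟨k, l, hkl, hk⟩
    · exact absurd hk.symm (hbasic k _ (Or.inl ⟨π i, rfl⟩) _ (Or.inl ⟨π j, rfl⟩))
    · have hklne : k ≠ l := fun e => by rw [e] at hkl; omega
      have ei := congrFun hk (π i)
      have ej := congrFun hk (π j)
      simp only [Pi.add_apply, basisVec_apply, if_true, if_neg hne, if_neg hne.symm, add_zero,
        zero_add] at ei ej
      by_cases a1 : π i = k
      · by_cases a2 : π j = k
        · exact absurd (a1.trans a2.symm) hne
        · by_cases a3 : π j = l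
          · left; rw [a1, a3, hkl]
          · simp [a2, a3] at ej
      · by_cases a2 : π i = l
        · by_cases a3 : π j = k
          · right; rw [a2, a3, hkl]
          · by_cases a4 : π j = l
            · exact absurd (a2.trans a4.symm) hne
            · simp [a3, a4] at ej
        · simp [a1, a2] at ei
  have hmono : (∀ i : Fin s, ∀ h0 : 0 < s, (π i : ℕ) = π ⟨0, h0⟩ + i) ∨
      (∀ i : Fin s, ∀ h0 : 0 < s, (π i : ℕ) + i = π ⟨0, h0⟩) := by
    rcases Nat.lt_or_ge 1 s with hs | hs
    · rcases hstep ⟨0, by omega⟩ ⟨1, hs⟩ rfl with e | e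
      · left
        intro i h0
        obtain ⟨i, hi⟩ := i
        show (π ⟨i, hi⟩ : ℕ) = π ⟨0, h0⟩ + i
        induction i using Nat.strong_induction_on with
        | _ i ih =>
          rcases i with _ | _ | i
          · rfl
          · exact e
          · have e1 := ih (i + 1) (by omega) (by omega)
            have e0 := ih i (by omega) (by omega)
            rcases hstep ⟨i + 1, by omega⟩ ⟨i + 1 + 1, hi⟩ rfl with e' | e'
            · omega
            · exact absurd (congrArg Fin.val (hπinj (Fin.ext (by omega) : π ⟨i + 1 + 1, hi⟩ = π ⟨i, by omega⟩)))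
                (by simp only; omega)
      · right
        intro i h0
        obtain ⟨i, hi⟩ := i
        show (π ⟨i, hi⟩ : ℕ) + i = π ⟨0, h0⟩
        induction i using Nat.strong_induction_on with
        | _ i ih =>
          rcases i with _ | _ | i
          · rfl
          · exact e.symm
          · have e1 := ih (i + 1) (by omega) (by omega)
            have e0 := ih i (by omega) (by omega)
            rcases hstep ⟨i + 1, by omega⟩ ⟨i + 1 + 1, hi⟩ rfl with e' | e'
            · exact absurd (congrArg Fin.val (hπinj (Fin.ext (by omega) : π ⟨i + 1 + 1, hi⟩ = π ⟨i, by omega⟩)))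
                (by simp only; omega)
            · omega
    · left
      intro i h0
      have : i = ⟨0, h0⟩ := Fin.ext (by omega)
      rw [this]; simp
  have hπid : ∀ i, π i = i := by
    rcases hmono with hm | hm
    · intro i
      have h0 : 0 < s := lt_of_le_of_lt (Nat.zero_le _) i.2
      have := hm ⟨s - 1, by omega⟩ h0
      have := (π ⟨s - 1, by omega⟩).2
      have := hm i h0
      apply Fin.ext
      simp only at *
      omega
    · intro i
      have h0 : 0 < s := lt_of_le_of_lt (Nat.zero_le _) i.2
      have hinv : ∀ k, π (π k) = k := fun k => by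
        have a1 := hm ⟨s - 1, by omega⟩ h0
        have a2 := (π ⟨0, h0⟩).2
        have a3 := hm k h0
        have a4 := hm (π k) h0
        apply Fin.ext
        simp only at *
        omega
      have heven : ∀ m, h^[2 * m] (basisVec i) = basisVec i := by
        intro m
        induction m with
        | zero => rfl
        | succ m ih =>
          rw [show 2 * (m + 1) = 2 + 2 * m by ring, Function.iterate_add_apply, ih]
          show h (h _) = _
          rw [hπ, hπ, hinv]
      obtain ⟨m, rfl⟩ := ho
      have := congrFun hord (basisVec i)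
      rw [show 2 * m + 1 = 1 + 2 * m by ring, Function.iterate_add_apply, heven, id_eq] at this
      rw [show h^[1] (basisVec i) = h (basisVec i) from rfl, hπ] at this
      exact basisVec_injective this
  have hdec : c = ∑ i, (c i).val • (basisVec i : Fin s → ZMod q) := by
    funext k
    rw [Finset.sum_apply, Finset.sum_eq_single k]
    · rw [Pi.smul_apply, basisVec_apply, if_pos rfl, nsmul_eq_mul, mul_one, ZMod.natCast_val, ZMod.cast_id]
    · intro i _ hi
      rw [Pi.smul_apply, basisVec_apply, if_neg (Ne.symm hi), smul_zero]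
    · exact fun hk => absurd (Finset.mem_univ k) hk
  conv_lhs => rw [hdec, map_sum]
  conv_rhs => rw [hdec]
  simp only [map_nsmul, hπ, hπid]

end CfsgLib.OddBase
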