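import Cfsg.Agent.Lib.OddBase.Monomial
import Cfsg.Agent.Lib.OddBase.Path

/-!
# A vector forcing a normaliser of a Heisenberg configuration to centralize it
-/

set_option autoImplicit false

universe u

namespace CfsgLib.OddBase

/-- An automorphism fixing a cube root of unity and moving a generator by one is trivial. -/
theorem kummer {F : Type*} [Field F] [Finite F] (α : F →+* F) {θ ζ ε : F}
    (hθ : ∀ r : F, r ≠ 0 → ∃ n : ℕ, θ ^ n = r) (hζ : IsPrimitiveRoot ζ 3) (hαζ : α ζ = ζ)
    (hε : ε ^ 3 = 1) (h : α θ * ε = θ) : α θ = θ := by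
  by_contra hne
  let K := α.eqLocusField (RingHom.id F)
  have hK : ∀ {r}, r ∈ K ↔ α r = r := fun {r} => Iff.rfl
  have hθ0 : θ ≠ 0 := fun e => hne (by rw [e, map_zero])
  have h3 : θ ^ 3 ∈ K := hK.2 (by
    conv_rhs => rw [← h]
    rw [mul_pow, hε, mul_one, map_pow])
  haveI : Fintype F := Fintype.ofFinite F
  haveI : Fintype K := Fintype.ofFinite K
  have hsurj : Function.Surjective fun p : Fin 3 × K => (p.2 : F) * θ ^ (p.1 : ℕ) := by
    intro r
    by_cases hr : r = 0
    · exact ⟨(0, 0), by simp [hr]⟩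
    obtain ⟨n, rfl⟩ := hθ r hr
    refine ⟨(⟨n % 3, Nat.mod_lt _ (by norm_num)⟩, ⟨(θ ^ 3) ^ (n / 3), K.pow_mem h3 _⟩), ?_⟩
    show (θ ^ 3) ^ (n / 3) * θ ^ (n % 3) = _
    rw [← pow_mul, ← pow_add, Nat.div_add_mod]
  have hinj : Function.Injective fun p : K × K => (p.1 : F) + p.2 * θ := by
    rintro ⟨a, b⟩ ⟨c, d⟩ e
    simp only at e
    by_cases hbd : b = d
    · subst hbd
      exact Prod.ext (Subtype.ext (add_right_cancel e)) rfl
    · refine absurd (hK.1 ?_) hne
      have hsub : (b : F) - d ≠ 0 := fun z => hbd (Subtype.ext (sub_eq_zero.1 z))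
      have e' : θ = ((c : F) - a) * ((b : F) - d)⁻¹ := by
        field_simp
        linear_combination e
      rw [e']
      exact K.mul_mem (K.sub_mem c.2 a.2) (K.inv_mem (K.sub_mem b.2 d.2))
  have h1 := Fintype.card_le_of_surjective _ hsurj
  have h2 := Fintype.card_le_of_injective _ hinj
  rw [Fintype.card_prod, Fintype.card_fin] at h1
  rw [Fintype.card_prod] at h2
  have h4 : 4 ≤ Fintype.card K := by
    have hmem : ∀ j : Fin 3, ζ ^ (j : ℕ) ∈ K := fun j => K.pow_mem (hK.2 hαζ) _
    let f : Option (Fin 3) → K := fun o => o.elim 0 fun j => ⟨ζ ^ (j : ℕ), hmem j⟩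
    have hf : Function.Injective f := by
      intro a b e
      have e' := congrArg (fun k : K => (k : F)) e
      rcases a with _ | i <;> rcases b with _ | j
      · rfl
      · exact absurd e'.symm (pow_ne_zero _ (hζ.ne_zero (by norm_num)))
      · exact absurd e' (pow_ne_zero _ (hζ.ne_zero (by norm_num)))
      · exact congrArg some (Fin.ext (hζ.pow_inj i.2 j.2 e'))
    have := Fintype.card_le_of_injective f hf
    simpa using this
  have hKK : Fintype.card K * 4 ≤ Fintype.card K * Fintype.card K := Nat.mul_le_mul_left _ h4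
  omega

/-- An injective additive map of the line over three elements is an involution. -/
theorem apply_apply_of_additive_line (f : (Fin 1 → ZMod 3) → (Fin 1 → ZMod 3))
    (hf : ∀ c d, f (c + d) = f c + f d) (hinj : Function.Injective f) (c : Fin 1 → ZMod 3) :
    f (f c) = c := by
  have hc : ∀ c : Fin 1 → ZMod 3, c = 0 ∨ c = (fun _ => 1) ∨ c = (fun _ => 1) + (fun _ => 1) := by
    decide
  have hf0 : f 0 = 0 := by
    have := hf 0 0; rw [add_zero] at this; simpa using this
  have hf1 : f (f (fun _ => 1)) = fun _ => 1 := by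
    rcases hc (f fun _ => 1) with e | e | e
    · exact absurd (hinj (e.trans hf0.symm)) (by decide)
    · rw [e, e]
    · rw [e, hf, e]; decide
  rcases hc c with rfl | rfl | rfl
  · rw [hf0, hf0]
  · exact hf1
  · rw [hf, hf, hf1]

namespace Heis

variable {F : Type u} [Field F] {V : Type u} [AddCommGroup V] {q s : ℕ} [hq : Fact q.Prime]
  (D : Heis F V q s)

theorem mon_Z_conj (G : AddMonoid.End V) (L : Fin s → Fin s → ZMod q)
    (hz : ∀ i, ∃ f, D.Mon f (L i) ∧ G * D.z i = f * G) (m : Fin s → ℕ) :
    ∃ f, D.Mon f (∑ i, (m i : ZMod q) • L i) ∧ G * D.Z m = f * G := by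
  refine vec_induction (P := fun m => ∃ f, D.Mon f (∑ i, (m i : ZMod q) • L i) ∧ G * D.Z m = f * G)
    ?_ (fun a b ha hb => ?_) (fun i n => ?_) m
  · refine ⟨1, ?_, by rw [Z_zero, mul_one, one_mul]⟩
    simpa using D.mon_sc 1
  · obtain ⟨f, hf, ef⟩ := ha
    obtain ⟨g, hg, eg⟩ := hb
    refine ⟨f * g, ?_, by rw [Z_add, ← mul_assoc, ef, mul_assoc, eg, mul_assoc]⟩
    have := hf.mul D hg
    rw [← Finset.sum_add_distrib] at this
    simpa [add_smul] using this
  · rw [Z_single]
    have hs : ∑ k, ((Pi.single i n : Fin s → ℕ) k : ZMod q) • L k = (n : ZMod q) • L i := by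
      rw [Finset.sum_eq_single i]
      · rw [Pi.single_eq_same]
      · intro k _ hk; rw [Pi.single_eq_of_ne hk, Nat.cast_zero, zero_smul]
      · exact fun h => absurd (Finset.mem_univ i) h
    rw [hs]
    induction n with
    | zero => exact ⟨1, by simpa using D.mon_sc 1, by rw [pow_zero, mul_one, one_mul]⟩
    | succ n ih =>
      obtain ⟨f, hf, ef⟩ := ih (by
        rw [Finset.sum_eq_single i]
        · rw [Pi.single_eq_same]
        · intro k _ hk; rw [Pi.single_eq_of_ne hk, Nat.cast_zero, zero_smul]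
        · exact fun h => absurd (Finset.mem_univ i) h)
      obtain ⟨g, hg, eg⟩ := hz i
      refine ⟨f * g, ?_, by rw [pow_succ, ← mul_assoc, ef, mul_assoc, eg, mul_assoc]⟩
      have := hf.mul D hg
      rwa [Nat.cast_succ, add_smul, one_smul]

/-- The vector. -/
theorem exists_rigid_vector [Finite V] [Finite F] (hq3 : 3 ≤ q) (hs : 0 < s)
    {a b : V} (ha : a ∈ D.U) (ha0 : a ≠ 0) (hb : b ∈ D.U) :
    ∃ w : V, ∀ (G G' : AddMonoid.End V) (o : ℕ) (α : F →+* F), G' * G = 1 → Odd o → G ^ o = 1 →
      (∀ r, G * D.sc r = D.sc (α r) * G) → (∀ i, ∃ f L, D.Mon f L ∧ G * D.x i = f * G) →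
      (∀ i, ∃ f L, D.Mon f L ∧ G * D.z i = f * G) → G a = a → G w = w →
      (∀ r, Commute G (D.sc r)) ∧ (∀ i, Commute G (D.x i)) ∧ (∀ i, Commute G (D.z i)) ∧
        G b = b := by
  classical
  haveI : Fact (1 < q) := ⟨by omega⟩
  haveI : NeZero q := ⟨by omega⟩
  obtain ⟨γ, hγ⟩ := IsCyclic.exists_monoid_generator (α := Fˣ)
  set θ : F := (γ : F) with hθdef
  have hθ : ∀ r : F, r ≠ 0 → ∃ n : ℕ, θ ^ n = r := fun r hr => by
    obtain ⟨n, hn⟩ := Submonoid.mem_powers_iff _ _ |>.1 (hγ (Units.mk0 r hr))
    exact ⟨n, by rw [hθdef, ← Units.val_pow_eq_pow_val, hn]; rfl⟩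
  have hθ0 : θ ≠ 0 := γ.ne_zero
  let i₀ : Fin s := ⟨0, hs⟩
  let p : Fin s → ZMod q :=
    if q = 3 then (if hs2 : 2 ≤ s then basisVec ⟨1, by omega⟩ + (2 : ZMod q) • basisVec i₀
      else (2 : ZMod q) • basisVec i₀) else (3 : ZMod q) • basisVec i₀
  let Zs : Set (Fin s → ZMod q) := {c | -c ∈ pathSet q s ∧ ¬ (q = 3 ∧ s = 1)}
  have hval : ∀ c ∈ Zs, ∀ k, c k = 0 ∨ c k = -1 := fun c hc k => by
    rcases (pathSet_apply hc.1).1 k with e | e <;> rw [Pi.neg_apply] at e
    · exact Or.inl (neg_eq_zero.1 e)
    · exact Or.inr (neg_eq_iff_eq_neg.1 e)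
  let wf : (Fin s → ZMod q) → V := fun c =>
    if c = 0 then b else if c ∈ Zs then 0 else if c = p then D.sc θ a else a
  have hwfU : ∀ c, wf c ∈ D.U := fun c => by
    simp only [wf]; split_ifs
    exacts [hb, D.U.zero_mem, D.sc_mem ha θ, ha]
  have hwf0 : wf 0 = b := if_pos rfl
  have hwfne : ∀ c, c ≠ 0 → (wf c = 0 ↔ c ∈ Zs) := fun c hc => by
    simp only [wf, if_neg hc]
    by_cases h : c ∈ Zs
    · simp [h]
    · rw [if_neg h]
      refine iff_of_false ?_ h
      split_ifs
      · exact fun e => hθ0 (D.sc_eq_zero e ha0)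
      · exact ha0
  -- the small non-zero residues
  have hn0 : ∀ n : ℕ, 0 < n → n < q → (n : ZMod q) ≠ 0 := fun n h1 h2 e => by
    have := Nat.le_of_dvd h1 ((ZMod.natCast_eq_zero_iff n q).1 e)
    omega
  have h2 : (2 : ZMod q) ≠ 0 := by have := hn0 2 (by omega) (by omega); exact_mod_cast this
  have h1m : (1 : ZMod q) ≠ -1 := fun e => h2 (by linear_combination e)
  have notZ : ∀ c : Fin s → ZMod q, (∃ k, c k = 1) → c ∉ Zs := fun c ⟨k, hk⟩ hc => by
    rcases hval c hc k with e | e <;> rw [hk] at e
    exacts [one_ne_zero e, h1m e]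
  have ne0 : ∀ c : Fin s → ZMod q, (∃ k, c k = 1) → c ≠ 0 := fun c ⟨k, hk⟩ e => by
    rw [e] at hk; exact zero_ne_one hk
  refine ⟨∑ c, D.slot c (wf c), ?_⟩
  intro G G' o α hG'G ho hGo hGsc hGx hGz hGa hGw
  have hG'inj : Function.Injective G := fun v w e => by
    have := congrArg G' e
    rwa [show G' (G v) = (G' * G) v from rfl, show G' (G w) = (G' * G) w from rfl, hG'G] at this
  have appG : ∀ {f g : AddMonoid.End V}, G * f = g * G → ∀ v, G (f v) = g (G v) := fun {f g} e v =>
    congrArg (fun k : AddMonoid.End V => k v) e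
  -- a monomial with image of `a` in a slot
  have monSlot : ∀ {f : AddMonoid.End V} {L : Fin s → ZMod q}, D.Mon f L →
      ∃ ρf : F, ∀ u ∈ D.U, f u = D.slot L (D.sc ρf u) := by
    rintro f L ⟨κ, k, l, rfl, rfl⟩
    obtain ⟨d, -, hd⟩ := D.Z_reduce l
    refine ⟨κ * (D.ψ (dot (red q k) (red q l)) * d), fun u hu => ?_⟩
    show D.sc κ (D.X k (D.Z l u)) = D.Z (lift (red q l)) (D.sc _ u)
    rw [D.X_Z_fix k l hu, hd, ← comm_apply (D.commute_Z_sc _ _), sc_apply_mul, sc_apply_mul]
    rfl
  -- the diagonal operators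
  have hX : ∀ i, ∃ k : Fin s → ℕ, G * D.x i = D.X k * G := by
    intro i
    obtain ⟨f, L, hf, ef⟩ := hGx i
    have hfa : f a = a := by
      have := appG ef a
      rw [ha i, hGa] at this
      exact this.symm
    obtain ⟨ρf, hρ⟩ := monSlot hf
    have e1 := hρ a ha
    rw [hfa] at e1
    have hL : L = 0 := (D.slot_index_eq (d := L) ha (D.sc_mem ha ρf)
      (by rw [D.slot_zero]; exact e1) ha0).symm
    subst hL
    obtain ⟨κ, k, l, rfl, hl⟩ := hf
    obtain ⟨d, -, hd⟩ := D.Z_reduce l
    have hl0 : lift (red q l) = 0 := by rw [hl]; exact funext fun i => ZMod.val_zero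
    rw [hl0, Z_zero, mul_one] at hd
    have hfe : D.sc κ * (D.X k * D.Z l) = D.sc (κ * d) * D.X k := by
      rw [hd, ← (D.commute_X_sc d k).eq, ← mul_assoc, map_mul]
    rw [hfe] at ef hfa
    have hκ : κ * d = 1 := by
      have : D.sc (κ * d) (D.X k a) = a := hfa
      rw [D.X_fix k ha] at this
      exact D.sc_cancel (this.trans (D.sc_one_apply a).symm) ha0
    exact ⟨k, by rw [ef, hκ, map_one, one_mul]⟩
  choose K hK using hX
  have hUmap : ∀ u ∈ D.U, G u ∈ D.U := by
    intro u hu
    -- the inverse image of the space lies in it, hence equality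
    have hsub : ∀ v, G v ∈ D.U → v ∈ D.U := fun v hv i => hG'inj (by
      rw [appG (hK i) v]; exact D.X_fix _ hv)
    let g : {v : V // G v ∈ D.U} → D.U := fun v => ⟨v, hsub v v.2⟩
    have h1 : Function.Bijective (fun v : {v : V // G v ∈ D.U} => (⟨G v, v.2⟩ : D.U)) := by
      refine ⟨fun v w e => Subtype.ext (hG'inj (congrArg Subtype.val e)), fun y => ?_⟩
      obtain ⟨v, hv⟩ := (Finite.surjective_of_injective hG'inj) y.1
      exact ⟨⟨v, hv ▸ y.2⟩, Subtype.ext hv⟩
    have hgs : Function.Surjective g := by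
      refine (Function.Injective.bijective_of_nat_card_le (f := g)
        (fun v w e => Subtype.ext (congrArg (fun y : D.U => (y : V)) e)) ?_).2
      rw [Nat.card_eq_of_bijective _ h1]
    obtain ⟨v, hv⟩ := hgs ⟨u, hu⟩
    have := v.2
    rwa [show (v : V) = u from congrArg (fun y : D.U => (y : V)) hv] at this
  choose Fz L hFz hzG using hGz
  let h : (Fin s → ZMod q) →+ (Fin s → ZMod q) :=
    AddMonoidHom.mk' (fun c => ∑ i, c i • L i) fun c d => by
      simp [add_smul, Finset.sum_add_distrib]
  have hslot : ∀ c, ∃ r : F, ∀ u ∈ D.U, G (D.slot c u) = D.slot (h c) (D.sc r (G u)) := by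
    intro c
    obtain ⟨f, hf, ef⟩ := D.mon_Z_conj G L (fun i => ⟨Fz i, hFz i, hzG i⟩) (lift c)
    have hh : ∑ i, ((lift c i : ℕ) : ZMod q) • L i = h c := by
      show _ = ∑ i, c i • L i
      simp [lift]
    rw [hh] at hf
    obtain ⟨r, hr⟩ := monSlot hf
    exact ⟨r, fun u hu => (appG ef u).trans (hr _ (hUmap u hu))⟩
  choose R hR using hslot
  -- the order of the permutation of the slots
  have hpow : ∀ (n : ℕ) (c : Fin s → ZMod q), ∃ u ∈ D.U, (G ^ n) (D.slot c a) = D.slot (h^[n] c) u := by
    intro n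
    induction n with
    | zero => exact fun c => ⟨a, ha, rfl⟩
    | succ n ih =>
      intro c
      obtain ⟨u, hu, e⟩ := ih c
      refine ⟨D.sc (R (h^[n] c)) (G u), D.sc_mem (hUmap u hu) _, ?_⟩
      rw [pow_succ', show (G * G ^ n) (D.slot c a) = G ((G ^ n) (D.slot c a)) from rfl, e, hR _ u hu,
        ← Function.iterate_succ_apply' h n c]
  have hho : h^[o] = id := funext fun c => by
    obtain ⟨u, hu, e⟩ := hpow o c
    rw [hGo] at e
    exact (D.slot_index_eq ha hu e ha0).symm
  have hhinj : Function.Injective h := by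
    obtain ⟨k, rfl⟩ := ho
    rw [show 2 * k + 1 = (2 * k).succ from rfl, Function.iterate_succ] at hho
    exact Function.Injective.of_comp (f := h^[2 * k]) (hho ▸ Function.injective_id)
  have hcomp : ∀ c, D.sc (R c) (G (wf c)) = wf (h c) := by
    intro c
    have e := congrArg (D.projHom (h c)) hGw
    rw [map_sum, map_sum, map_sum] at e
    have e1 : ∀ d, D.projHom (h c) (G (D.slot d (wf d))) =
        if d = c then D.slot (h c) (D.sc (R c) (G (wf c))) else 0 := by
      intro d
      show D.proj (h c) _ = _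
      rw [hR d _ (hwfU d), D.proj_slot _ _ (D.sc_mem (hUmap _ (hwfU d)) _)]
      by_cases hdc : d = c
      · subst hdc; simp
      · rw [if_neg fun e => hdc (hhinj e), if_neg hdc]
    have e2 : ∀ d, D.projHom (h c) (D.slot d (wf d)) =
        if d = h c then D.slot (h c) (wf (h c)) else 0 := by
      intro d
      show D.proj (h c) _ = _
      rw [D.proj_slot _ _ (hwfU d)]
      by_cases hdc : d = h c
      · subst hdc; simp
      · rw [if_neg hdc, if_neg hdc]
    simp only [e1, e2, Finset.sum_ite_eq', Finset.mem_univ, if_true] at e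
    rw [← sub_eq_zero, ← map_sub] at e
    exact sub_eq_zero.1 (D.slot_injective _ e)
  have hR0 : ∀ c, R c ≠ 0 := fun c e => by
    have := hR c a ha
    rw [e, map_zero D.sc, show (0 : AddMonoid.End V) (G a) = 0 from rfl, map_zero] at this
    exact ha0 (D.slot_injective c (hG'inj (this.trans (map_zero G).symm)))
  have hZs : ∀ c, c ∈ Zs → h c ∈ Zs := by
    intro c hc
    have hc0 : c ≠ 0 := by
      intro e
      subst e
      obtain ⟨k, hk⟩ := (pathSet_apply hc.1).2
      simp at hk
    have hhc0 : h c ≠ 0 := fun e => hc0 (hhinj (e.trans (map_zero h).symm))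
    refine (hwfne _ hhc0).1 ?_
    rw [← hcomp, (hwfne _ hc0).2 hc, map_zero, map_zero]
  have hid : ∀ c, h c = c := by
    by_cases h31 : q = 3 ∧ s = 1
    · obtain ⟨h31, rfl⟩ := h31
      subst h31
      have hh := fun c => apply_apply_of_additive_line h (map_add h) hhinj c
      intro c
      obtain ⟨k, rfl⟩ := ho
      have heven : ∀ m, h^[2 * m] c = c := fun m => by
        induction m with
        | zero => rfl
        | succ m ih =>
          rw [show 2 * (m + 1) = 2 + 2 * m by ring, Function.iterate_add_apply, ih]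
          exact hh c
      have := congrFun hho c
      rwa [show 2 * k + 1 = 1 + 2 * k by ring, Function.iterate_add_apply, heven] at this
    · refine eq_one_of_path hq3 h ho hho fun c hc => ?_
      have := (hZs (-c) ⟨by rwa [neg_neg], h31⟩).1
      rwa [map_neg, neg_neg] at this
  -- normal form of the images of the shifting operators
  have hLi : ∀ i, L i = basisVec i := by
    intro i
    refine Eq.trans ?_ (hid (basisVec i))
    show L i = ∑ j, (basisVec i : Fin s → ZMod q) j • L j
    rw [Finset.sum_eq_single i]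
    · rw [basisVec_apply, if_pos rfl, one_smul]
    · intro j _ hj; rw [basisVec_apply, if_neg hj, zero_smul]
    · exact fun hm => absurd (Finset.mem_univ i) hm
  have hnf : ∀ i, ∃ (κ : F) (k : Fin s → ℕ), G * D.z i = D.sc κ * (D.X k * D.z i) * G := by
    intro i
    obtain ⟨κ, k, l, e, hl⟩ := hFz i
    obtain ⟨d, -, hd⟩ := D.Z_reduce l
    rw [hl, hLi] at hd
    have hlb : lift (basisVec i : Fin s → ZMod q) = Pi.single i 1 := by
      funext k
      by_cases hk : k = i
      · subst hk; simp [lift, basisVec, ZMod.val_one]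
      · simp [lift, basisVec, hk]
    rw [hlb, Z_single, pow_one] at hd
    refine ⟨κ * d, k, ?_⟩
    rw [hzG, e, hd, ← mul_assoc (D.X k), ← (D.commute_X_sc d k).eq, map_mul]
    simp only [mul_assoc]
  choose κ k hnf using hnf
  have hz1 : ∀ i, ∀ m : Fin s → ℕ, ∀ u ∈ D.U, (D.sc (κ i) * (D.X (k i) * D.z i)) (D.Z m u) =
      D.sc (κ i * D.ψ (dot (red q (k i)) (red q (Pi.single i 1 + m)))) (D.Z (Pi.single i 1 + m) u) := by
    intro i m u hu
    show D.sc (κ i) (D.X (k i) (D.z i (D.Z m u))) = _
    rw [show D.z i (D.Z m u) = D.Z (Pi.single i 1 + m) u by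
      rw [Z_add, Z_single, pow_one]; rfl, D.X_Z_fix _ _ hu, sc_apply_mul]
  have redb : ∀ i, red q (Pi.single i 1 : Fin s → ℕ) = (basisVec i : Fin s → ZMod q) := fun i => by
    rw [red_single, Nat.cast_one]; rfl
  -- the image of a vector in a slot
  have slotZ : ∀ m : Fin s → ℕ, (∀ i, m i < q) → D.slot (red q m) = D.Z m := fun m hm => by
    refine congrArg D.Z (funext fun i => ?_)
    show ((m i : ZMod q)).val = m i
    rw [ZMod.val_natCast, Nat.mod_eq_of_lt (hm i)]
  have probe : ∀ (m : Fin s → ℕ) (r r' : F), (∀ i, m i < q) →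
      wf (red q m) = D.sc r' a → G (D.Z m a) = D.sc r (D.Z m a) → α r' * r = r' := by
    intro m r r' hm hw hG
    rw [← slotZ m hm] at hG
    have e1 := hR (red q m) a ha
    rw [hid, hG, hGa, show D.sc r (D.slot (red q m) a) = D.slot (red q m) (D.sc r a) from
      comm_apply (D.commute_Z_sc _ _) a, ← sub_eq_zero, ← map_sub] at e1
    have e3 := sub_eq_zero.1 (D.slot_injective _ e1)
    have hRc := D.sc_cancel e3 ha0
    have e4 := hcomp (red q m)
    rw [hid, hw, appG (hGsc r') a, hGa, ← sc_apply_mul] at e4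
    rw [mul_comm, hRc]
    exact D.sc_cancel e4 ha0
  -- values of the coordinates
  have h3 : 5 ≤ q → (3 : ZMod q) ≠ 0 := fun h5 => by
    have := hn0 3 (by omega) (by omega); exact_mod_cast this
  have h4 : 5 ≤ q → (4 : ZMod q) ≠ 0 := fun h5 => by
    have := hn0 4 (by omega) (by omega); exact_mod_cast this
  have hq5 : q ≠ 3 → 5 ≤ q := fun hne => by
    rcases Nat.lt_or_ge q 5 with h | h
    · obtain rfl : q = 4 := by omega
      exact absurd hq.out (by norm_num)
    · exact h
  have h21 : (2 : ZMod q) ≠ 1 := fun e => one_ne_zero (by linear_combination e)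
  have hp5 : q ≠ 3 → p = (3 : ZMod q) • basisVec i₀ := fun h => if_neg h
  have hp3s : q = 3 → ∀ hs2 : 2 ≤ s, p = basisVec ⟨1, by omega⟩ + (2 : ZMod q) • basisVec i₀ :=
    fun h hs2 => by simp only [p, if_pos h, dif_pos hs2]
  have hp31 : q = 3 → ¬ 2 ≤ s → p = (2 : ZMod q) • basisVec i₀ :=
    fun h hs2 => by simp only [p, if_pos h, dif_neg hs2]
  have i1 : ∀ hs2 : 2 ≤ s, (⟨1, by omega⟩ : Fin s) ≠ i₀ := fun hs2 => fun e =>
    absurd (congrArg Fin.val e) one_ne_zero
  have pcoord : p i₀ ≠ 0 ∧ p i₀ ≠ 1 := by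
    by_cases h : q = 3
    · by_cases hs2 : 2 ≤ s
      · have : p i₀ = 2 := by simp [hp3s h hs2, basisVec_apply, Ne.symm (i1 hs2)]
        rw [this]; exact ⟨h2, h21⟩
      · have : p i₀ = 2 := by simp [hp31 h hs2, basisVec_apply]
        rw [this]; exact ⟨h2, h21⟩
    · have : p i₀ = 3 := by simp [hp5 h, basisVec_apply]
      rw [this]
      exact ⟨h3 (hq5 h), fun e => h2 (by linear_combination e)⟩
  have wfone : ∀ c, c ≠ 0 → c ∉ Zs → c ≠ p → wf c = D.sc 1 a := fun c e1 e2 e3 => by
    simp only [wf, if_neg e1, if_neg e2, if_neg e3, D.sc_one_apply]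
  have wfp : ∀ c, c ≠ 0 → c ∉ Zs → c = p → wf c = D.sc θ a := fun c e1 e2 e3 => by
    simp only [wf, if_neg e1, if_neg e2, if_pos e3]
  have step : ∀ (i : Fin s) (m : Fin s → ℕ) (r : F), G (D.Z m a) = D.sc r (D.Z m a) →
      G (D.Z (Pi.single i 1 + m) a) = D.sc (r * (κ i * D.ψ (dot (red q (k i))
        (basisVec i + red q m)))) (D.Z (Pi.single i 1 + m) a) := by
    intro i m r hm
    rw [Z_add, Z_single, pow_one]
    show G (D.z i (D.Z m a)) = _
    rw [appG (hnf i) (D.Z m a), hm,
      ← comm_apply (show Commute (D.sc r) (D.sc (κ i) * (D.X (k i) * D.z i)) from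
        ((Commute.all r (κ i)).map D.sc).mul_right ((D.commute_X_sc r _).mul_right (D.scz r i))),
      hz1 i m a ha, red_add, redb, ← sc_apply_mul, Z_add, Z_single, pow_one]
  let kk : Fin s → Fin s → ZMod q := fun i j => red q (k i) j
  have dotb : ∀ i j, dot (red q (k i)) (basisVec j) = kk i j := fun i j => by
    show dot _ (Pi.single j 1) = _
    rw [dot_single_right, mul_one]
  have G0 : G (D.Z 0 a) = D.sc 1 (D.Z 0 a) := by
    rw [Z_zero, D.sc_one_apply]; exact hGa
  have one_of : ∀ r : F, α 1 * r = 1 → r = 1 := fun r e => by rwa [map_one, one_mul] at e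
  have hκ : ∀ i, κ i * D.ψ (kk i i) = 1 := by
    intro i
    have e := step i 0 1 G0
    rw [red_zero, add_zero, add_zero, dotb, one_mul] at e
    have hlt : ∀ j, (Pi.single i 1 : Fin s → ℕ) j < q := fun j => by
      by_cases hj : j = i <;> simp [hj] <;> omega
    refine one_of _ (probe _ _ 1 hlt ?_ e)
    rw [redb]
    refine wfone _ (ne0 _ ⟨i, by simp [basisVec_apply]⟩) (notZ _ ⟨i, by simp [basisVec_apply]⟩)
      fun e => ?_
    have := congrFun e i₀
    rw [basisVec_apply] at this
    split_ifs at this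
    exacts [pcoord.2 this.symm, pcoord.1 this.symm]
  have step' : ∀ (i : Fin s) (m : Fin s → ℕ) (r : F), G (D.Z m a) = D.sc r (D.Z m a) →
      G (D.Z (Pi.single i 1 + m) a) =
        D.sc (r * D.ψ (dot (red q (k i)) (red q m))) (D.Z (Pi.single i 1 + m) a) := by
    intro i m r hm
    rw [step i m r hm, dot_add_right, dotb, D.ψ_add, ← mul_assoc (κ i), hκ, one_mul]
  have G1 : ∀ i, G (D.Z (Pi.single i 1) a) = D.sc 1 (D.Z (Pi.single i 1) a) := fun i => by
    have := step' i 0 1 G0
    rwa [red_zero, dot_zero_right, add_zero, ψ_zero, one_mul] at this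
  have hoff : ∀ i j, i ≠ j → kk i j = 0 := by
    intro i j hij
    have e := step' i _ 1 (G1 j)
    rw [redb, dotb, one_mul] at e
    have hlt : ∀ l, (Pi.single i 1 + Pi.single j 1 : Fin s → ℕ) l < q := fun l => by
      by_cases hl : l = i <;> by_cases hl' : l = j <;> simp [hl, hl', hij, Ne.symm hij] <;> omega
    refine D.ψ_eq_one (one_of _ (probe _ _ 1 hlt ?_ e))
    rw [red_add, redb, redb]
    refine wfone _ (ne0 _ ⟨i, by simp [basisVec_apply, hij]⟩)
      (notZ _ ⟨i, by simp [basisVec_apply, hij]⟩) fun e => ?_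
    have := congrFun e i₀
    rw [Pi.add_apply, basisVec_apply, basisVec_apply] at this
    by_cases a1 : i₀ = i <;> by_cases a2 : i₀ = j
    · exact hij (a1.symm.trans a2)
    · rw [if_pos a1, if_neg a2, add_zero] at this; exact pcoord.2 this.symm
    · rw [if_neg a1, if_pos a2, zero_add] at this; exact pcoord.2 this.symm
    · rw [if_neg a1, if_neg a2, add_zero] at this; exact pcoord.1 this.symm
  have G2 : ∀ i, G (D.Z (Pi.single i 2) a) = D.sc (D.ψ (kk i i)) (D.Z (Pi.single i 2) a) := fun i => by
    have := step' i _ 1 (G1 i)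
    rwa [redb, dotb, one_mul, ← Pi.single_add] at this
  have hdiag : (∀ i, kk i i = 0) ∧ α θ = θ := by
    by_cases h : q = 3
    · have hζ3 : IsPrimitiveRoot D.ξ 3 := (congrArg (IsPrimitiveRoot D.ξ) h).mp D.hξ
      have hαo : ∀ r, α^[o] r = r := by
        have hn : ∀ n r, G ^ n * D.sc r = D.sc (α^[n] r) * G ^ n := by
          intro n r
          induction n with
          | zero => simp
          | succ n ih =>
            rw [pow_succ', mul_assoc, ih, ← mul_assoc, hGsc, Function.iterate_succ_apply', mul_assoc]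
        intro r
        have := hn o r
        rw [hGo, one_mul, mul_one] at this
        haveI hnt : Nontrivial (AddMonoid.End V) := ⟨⟨1, 0, fun z =>
          ha0 (congrArg (fun f : AddMonoid.End V => f a) z)⟩⟩
        exact (D.sc.injective this).symm
      have hαξ : α D.ξ = D.ξ := by
        obtain ⟨n, hn, e⟩ := hζ3.eq_pow_of_pow_eq_one (ξ := α D.ξ)
          (by rw [← map_pow, hζ3.pow_eq_one, map_one])
        interval_cases n
        · exact absurd (α.injective ((by simpa using e.symm : α D.ξ = 1).trans (map_one α).symm))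
            (hζ3.ne_one (by norm_num))
        · rw [← e, pow_one]
        · have h2' : ∀ m, α^[2 * m] D.ξ = D.ξ := by
            intro m
            induction m with
            | zero => rfl
            | succ m ih =>
              rw [show 2 * (m + 1) = 2 + 2 * m by ring, Function.iterate_add_apply, ih]
              show α (α D.ξ) = _
              rw [← e, map_pow, ← e, ← pow_mul, show 2 * 2 = 3 + 1 by norm_num, pow_succ,
                hζ3.pow_eq_one, one_mul]
          obtain ⟨m, rfl⟩ := ho
          have := hαo D.ξ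
          rw [show 2 * m + 1 = 1 + 2 * m by ring, Function.iterate_add_apply, h2'] at this
          exact this
      have hcube : ∀ x : ZMod q, D.ψ x ^ 3 = 1 := fun x => by
        rw [ψ, ← pow_mul, mul_comm, pow_mul, hζ3.pow_eq_one, one_pow]
      have mixed : ∀ i j, i ≠ j →
          G (D.Z (Pi.single i 1 + Pi.single j 2) a) =
            D.sc (D.ψ (kk j j)) (D.Z (Pi.single i 1 + Pi.single j 2) a) ∧
          (∀ l, (Pi.single i 1 + Pi.single j 2 : Fin s → ℕ) l < q) ∧
          red q (Pi.single i 1 + Pi.single j 2 : Fin s → ℕ) = basisVec i + (2 : ZMod q) • basisVec j := by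
        intro i j hij
        have er : red q (Pi.single j 2 : Fin s → ℕ) = (2 : ZMod q) • basisVec j := by
          funext l; by_cases hl : l = j <;> simp [red, basisVec_apply, hl]
        refine ⟨?_, fun l => ?_, by rw [red_add, redb, er]⟩
        · have := step' i _ _ (G2 j)
          rwa [er, show dot (red q (k i)) ((2 : ZMod q) • basisVec j) = 2 * kk i j by
            rw [← dotb]; simp [dot, Finset.mul_sum, mul_left_comm], hoff i j hij, mul_zero, ψ_zero,
            mul_one] at this
        · by_cases hl : l = i <;> by_cases hl' : l = j <;> simp [hl, hl', hij, Ne.symm hij] <;> omega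
      have hoth : ∀ j, j ≠ i₀ → kk j j = 0 := by
        intro j hj
        obtain ⟨e, hlt, hr⟩ := mixed i₀ j (Ne.symm hj)
        refine D.ψ_eq_one (one_of _ (probe _ _ 1 hlt ?_ e))
        rw [hr]
        refine wfone _ (ne0 _ ⟨i₀, by simp [basisVec_apply, Ne.symm hj]⟩)
          (notZ _ ⟨i₀, by simp [basisVec_apply, Ne.symm hj]⟩) fun e => ?_
        refine pcoord.2 ?_
        rw [← e]; simp [basisVec_apply, Ne.symm hj]
      have h00 : α θ * D.ψ (kk i₀ i₀) = θ := by
        by_cases hs2 : 2 ≤ s
        · obtain ⟨e, hlt, hr⟩ := mixed ⟨1, by omega⟩ i₀ (i1 hs2)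
          refine probe _ _ θ hlt ?_ e
          rw [hr]
          exact wfp _ (ne0 _ ⟨⟨1, by omega⟩, by simp [basisVec_apply, i1 hs2]⟩)
            (notZ _ ⟨⟨1, by omega⟩, by simp [basisVec_apply, i1 hs2]⟩) (hp3s h hs2).symm
        · refine probe _ _ θ (fun l => ?_) ?_ (G2 i₀)
          · by_cases hl : l = i₀ <;> simp [hl] <;> omega
          · have er : red q (Pi.single i₀ 2 : Fin s → ℕ) = p := by
              rw [hp31 h hs2]
              funext l; by_cases hl : l = i₀ <;> simp [red, basisVec_apply, hl]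
            rw [er]
            refine wfp _ (fun e => pcoord.1 (by rw [e]; rfl)) (fun hm => hm.2 ⟨h, by omega⟩) rfl
      have hθfix := kummer α hθ hζ3 hαξ (hcube _) h00
      refine ⟨fun j => ?_, hθfix⟩
      by_cases hj : j = i₀
      · subst hj
        rw [hθfix] at h00
        exact D.ψ_eq_one (mul_left_cancel₀ hθ0 (h00.trans (mul_one θ).symm))
      · exact hoth j hj
    · have h5 := hq5 h
      have e2 : ∀ i, red q (Pi.single i 2 : Fin s → ℕ) = (2 : ZMod q) • basisVec i := fun i => by
        funext l; by_cases hl : l = i <;> simp [red, basisVec_apply, hl]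
      have hd : ∀ i, kk i i = 0 := by
        intro i
        refine D.ψ_eq_one (one_of _ (probe _ _ 1 (fun l => ?_) ?_ (G2 i)))
        · by_cases hl : l = i <;> simp [hl] <;> omega
        · rw [e2]
          refine wfone _ (fun e => h2 ?_) (fun hm => ?_) fun e => ?_
          · simpa [basisVec_apply] using congrFun e i
          · rcases hval _ hm i with e' | e' <;> simp [basisVec_apply] at e'
            · exact h2 e'
            · exact h3 h5 (by linear_combination e')
          · have := congrFun e i₀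
            rw [hp5 h] at this
            by_cases hi : i₀ = i
            · simp [basisVec_apply, hi] at this
              exact one_ne_zero (by linear_combination -this)
            · simp [basisVec_apply, hi] at this
              exact h3 h5 this.symm
      refine ⟨hd, ?_⟩
      have e := step' i₀ _ _ (G2 i₀)
      rw [e2, show dot (red q (k i₀)) ((2 : ZMod q) • basisVec i₀) = 2 * kk i₀ i₀ by
        rw [← dotb]; simp [dot, Finset.mul_sum, mul_left_comm], hd, mul_zero, ψ_zero, mul_one,
        ← Pi.single_add] at e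
      have hθf := probe _ _ θ (fun l => by by_cases hl : l = i₀ <;> simp [hl] <;> omega) ?_ e
      · rwa [mul_one] at hθf
      · have er : red q (Pi.single i₀ (1 + 2) : Fin s → ℕ) = p := by
          rw [hp5 h]
          funext l; by_cases hl : l = i₀ <;> simp [red, basisVec_apply, hl]
        rw [er]
        refine wfp _ (fun e => pcoord.1 (by rw [e]; rfl)) (fun hm => ?_) rfl
        rcases hval _ hm i₀ with e' | e'
        · exact pcoord.1 e'
        · rw [hp5 h] at e'
          simp [basisVec_apply] at e'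
          exact h4 h5 (by linear_combination e')
  -- conclusions
  have hαid : ∀ r, α r = r := by
    intro r
    by_cases hr : r = 0
    · rw [hr, map_zero]
    · obtain ⟨n, rfl⟩ := hθ r hr
      rw [map_pow, hdiag.2]
  have hk0 : ∀ i, red q (k i) = 0 := fun i => funext fun j => by
    by_cases hij : i = j
    · subst hij; exact hdiag.1 i
    · exact hoff i j hij
  have hXk : ∀ i, D.X (k i) = 1 := fun i => D.eq_of_slots fun c u hu => by
    rw [D.X_slot _ _ hu, hk0, show dot (0 : Fin s → ZMod q) c = 0 by simp [dot], ψ_zero,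
      sc_one_apply]
    rfl
  refine ⟨fun r => (hGsc r).trans (by rw [hαid]), fun i => ?_, fun i => ?_, ?_⟩
  · have hKi : D.X (K i) = D.x i := by
      have hc : ∀ j, red q (K i) j = red q (Pi.single i 1 : Fin s → ℕ) j := by
        intro j
        have hzcomm : G * D.z j = D.z j * G := by
          have e : κ j = 1 := by
            have := hκ j
            rwa [hdiag.1, ψ_zero, mul_one] at this
          rw [hnf, e, hXk, map_one, one_mul, one_mul]
        have ea := appG hzcomm a
        rw [hGa] at ea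
        have e1 : G ((D.x i * D.Z (Pi.single j 1)) a) =
            D.sc (D.ψ (red q (Pi.single j 1) i)) (D.z j a) := by
          rw [D.x_Z, Z_single, pow_one]
          show G (D.sc _ (D.z j (D.x i a))) = _
          rw [ha i, appG (hGsc _) _, hαid, ea]
        have e2 : G ((D.x i * D.Z (Pi.single j 1)) a) =
            D.sc (D.ψ (dot (red q (K i)) (red q (Pi.single j 1)))) (D.z j a) := by
          show G (D.x i (D.Z (Pi.single j 1) a)) = _
          rw [appG (hK i), Z_single, pow_one, ea]
          have := D.X_Z_fix (K i) (Pi.single j 1) ha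
          rwa [Z_single, pow_one] at this
        have hne : D.z j a ≠ 0 := fun z => ha0 (D.slot_injective (red q (Pi.single j 1)) (by
          rw [slotZ _ (fun l => by by_cases hl : l = j <;> simp [hl] <;> omega), Z_single, pow_one]
          exact z))
        have := D.ψ_injective (D.sc_cancel (e1.symm.trans e2) hne)
        rw [redb, show dot (red q (K i)) (basisVec j) = red q (K i) j by
          show dot _ (Pi.single j 1) = _; rw [dot_single_right, mul_one]] at this
        rw [← this, redb]
        simp [basisVec_apply, eq_comm]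
      rw [← pow_one (D.x i), ← X_single]
      exact D.eq_of_slots fun c u hu => by rw [D.X_slot _ _ hu, D.X_slot _ _ hu, funext hc]
    exact (hK i).trans (by rw [hKi])
  · have e : κ i = 1 := by
      have := hκ i
      rwa [hdiag.1, ψ_zero, mul_one] at this
    show G * D.z i = D.z i * G
    rw [hnf, e, hXk, map_one, one_mul, one_mul]
  · have e1 := hR 0 a ha
    rw [map_zero h, hGa, D.slot_zero] at e1
    have hR1 : R 0 = 1 := D.sc_cancel
      (show D.sc (R 0) a = D.sc 1 a by rw [D.sc_one_apply]; exact e1.symm.trans hGa) ha0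
    have := hcomp 0
    rwa [map_zero h, hwf0, hR1, D.sc_one_apply] at this

end Heis

end CfsgLib.OddBase
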