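import Cfsg.Agent.Lib.LinearPPart.Main
import Cfsg.Agent.Lib.OddBase.Induced
import Cfsg.Agent.Lib.OddBase.Stab
import Cfsg.Agent.Lib.OddBase.Normalize

/-!
# Two vectors for a primitive group of odd order
-/

set_option autoImplicit false
set_option maxHeartbeats 800000

universe u

namespace CfsgLib.OddBase

open CfsgLib.LinearPPart

/-- A group of odd order normalizing a field generated by a maximal abelian normal subgroup. -/
theorem field_case {p : ℕ} [hp : Fact p.Prime] {X : Type u} [Group X] [Finite X] {V : Type u}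
    [AddCommGroup V] [Finite V] [Nontrivial V] (hX : Odd (Nat.card X)) (hV : ∀ x : V, p • x = 0)
    (IH : SmallBase.{u, u} (Nat.card V)) (ρ : X →* AddMonoid.End V) (hρ : Function.Injective ρ)
    (hirr : ∀ W : AddSubgroup V, Inv ρ W → W = ⊥ ∨ W = ⊤)
    {F : Type u} [Field F] [Finite F] (σ : F →+* AddMonoid.End V)
    (A : Subgroup X) [hAn : A.Normal] (hAab : ∀ a ∈ A, ∀ b ∈ A, a * b = b * a)
    (hmax : ∀ B : Subgroup X, B.Normal → (∀ a ∈ B, ∀ b ∈ B, a * b = b * a) → A ≤ B → B = A)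
    (hA : ∀ a ∈ A, ∃ r, σ r = ρ a)
    (hgen : ∀ f : AddMonoid.End V, (∀ a ∈ A, Commute f (ρ a)) → ∀ r, Commute f (σ r))
    (hnorm : ∀ g r, ∃ r', σ r' = ρ g * σ r * ρ g⁻¹) (hpA : ¬ p ∣ Nat.card A) : HasBase ρ := by
  classical
  haveI hsolv : Group.IsSolvable X := CfsgLib.OddOrder.odd_order_solvable hX
  haveI hnt : Nontrivial (AddMonoid.End V) := ⟨⟨1, 0, fun h => by
    obtain ⟨x, hx⟩ := exists_ne (0 : V)
    exact hx (congrArg (fun k : AddMonoid.End V => k x) h)⟩⟩
  have hσ : Function.Injective σ := σ.injective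
  have hp0 : ((p : ℕ) : F) = 0 := hσ (by
    rw [map_natCast, map_zero]
    exact DFunLike.ext _ _ fun x => (AddMonoid.End.natCast_apply p x).trans (hV x))
  haveI : CharP F p := (CharP.charP_iff_prime_eq_zero hp.out).mpr hp0
  set X₀ := Subgroup.centralizer (A : Set X) with hX₀
  haveI : X₀.Normal := Subgroup.normal_centralizer
  have hX₀A : ∀ g ∈ X₀, ∀ a ∈ A, a * g = g * a := fun g hg a ha => Subgroup.mem_centralizer_iff.mp hg a ha
  have hX₀σ : ∀ g ∈ X₀, ∀ r, Commute (ρ g) (σ r) := fun g hg => hgen _ fun a ha => by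
    rw [Commute, SemiconjBy, ← map_mul, ← map_mul, hX₀A g hg a ha]
  have hAX₀ : A ≤ X₀ := fun a ha => Subgroup.mem_centralizer_iff.mpr fun b hb => hAab b hb a ha
  -- the action on the field
  choose α₀ hα₀ using hnorm
  have hα₀' : ∀ g r, ρ g * σ r = σ (α₀ g r) * ρ g := fun g r => by
    rw [hα₀, mul_assoc, rho_inv_mul, mul_one]
  let α : X → F →+* F := fun g =>
    { toFun := α₀ g
      map_one' := hσ (by rw [hα₀, map_one, mul_one, ← map_mul, mul_inv_cancel, map_one])
      map_zero' := hσ (by rw [hα₀, map_zero, mul_zero, zero_mul])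
      map_mul' := fun a b => hσ (by
        rw [map_mul, hα₀, hα₀, hα₀, map_mul, show ρ g * σ a * ρ g⁻¹ * (ρ g * σ b * ρ g⁻¹) =
          ρ g * σ a * (ρ g⁻¹ * ρ g) * σ b * ρ g⁻¹ by simp only [mul_assoc], rho_inv_mul, mul_one]
        simp only [mul_assoc])
      map_add' := fun a b => hσ (by rw [map_add, hα₀, hα₀, hα₀, map_add, mul_add, add_mul]) }
  have hα : ∀ g r, ρ g * σ r = σ (α g r) * ρ g := hα₀'
  have hfix : ∀ g, (∀ r, Commute (ρ g) (σ r)) → g ∈ X₀ := fun g hg =>
    Subgroup.mem_centralizer_iff.mpr fun a ha => by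
      obtain ⟨r, hr⟩ := hA a ha
      apply hρ
      rw [map_mul, map_mul, ← hr]
      exact (hg r).eq.symm
  by_cases hXA : X₀ ≤ A
  · obtain ⟨γ, hγ⟩ := IsCyclic.exists_monoid_generator (α := Fˣ)
    obtain ⟨v, hv⟩ := exists_ne (0 : V)
    have hσz : ∀ r : F, σ r v = 0 → r = 0 := fun r h => by
      by_contra hr
      apply hv
      have := congrArg (σ r⁻¹) h
      rwa [map_zero, ← CfsgLib.OddBase.mul_apply', ← map_mul, inv_mul_cancel₀ hr, map_one] at this
    refine ⟨v, σ (γ : F) v, fun g h1 h2 => ?_⟩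
    rw [← CfsgLib.OddBase.mul_apply', hα, CfsgLib.OddBase.mul_apply', h1] at h2
    have hγfix : α g γ = γ := sub_eq_zero.1 (hσz _ (by rw [map_sub]; exact sub_eq_zero.2 h2))
    have hid : ∀ r, α g r = r := by
      intro r
      by_cases hr : r = 0
      · rw [hr, map_zero]
      · obtain ⟨n, hn⟩ := (Submonoid.mem_powers_iff _ _).1 (hγ (Units.mk0 r hr))
        have e : r = (γ : F) ^ n := by rw [← Units.val_pow_eq_pow_val, hn]; rfl
        rw [e, map_pow, hγfix]
    obtain ⟨r, hr⟩ := hA g (hXA (hfix g fun r => (hα g r).trans (by rw [hid]) ))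
    have hr1 : r - 1 = 0 := hσz _ (by
      rw [map_sub, map_one, hr]
      exact sub_eq_zero.2 h1)
    rw [← hr, sub_eq_zero.1 hr1, map_one]
  -- an elementary abelian normal factor above `A`
  obtain ⟨B, q, hq, hBn, hAB, hBX, hBne, hBq, hBcomm⟩ : ∃ (B : Subgroup X) (q : ℕ), q.Prime ∧
      B.Normal ∧ A ≤ B ∧ B ≤ X₀ ∧ B ≠ A ∧ (∀ x ∈ B, x ^ q ∈ A) ∧
      (∀ x ∈ B, ∀ y ∈ B, x * y * x⁻¹ * y⁻¹ ∈ A) := by
    set f := QuotientGroup.mk' A with hf
    have hsurj : Function.Surjective f := QuotientGroup.mk'_surjective A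
    haveI : (X₀.map f).Normal := (inferInstance : X₀.Normal).map f hsurj
    haveI : Finite (Subgroup (X ⧸ A)) :=
      Finite.of_injective (fun H => (H : Set (X ⧸ A))) SetLike.coe_injective
    have hne : X₀.map f ≠ ⊥ := by
      rw [Ne, Subgroup.map_eq_bot_iff, hf, QuotientGroup.ker_mk']; exact hXA
    obtain ⟨N, ⟨hN, hNb, hNle⟩, hNmin⟩ := (Set.toFinite {N : Subgroup (X ⧸ A) |
      N.Normal ∧ N ≠ ⊥ ∧ N ≤ X₀.map f}).exists_minimal ⟨X₀.map f, inferInstance, hne, le_rfl⟩
    haveI := hN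
    haveI : Group.IsSolvable (X ⧸ A) := inferInstance
    have hNab : ⁅N, N⁆ = ⊥ := by
      by_contra h
      exact (Group.IsSolvable.commutator_lt_of_ne_bot hNb).not_ge
        (hNmin ⟨Subgroup.commutator_normal N N, h, (Subgroup.commutator_le_left N N).trans hNle⟩
          (Subgroup.commutator_le_left N N))
    have hNc : ∀ x ∈ N, ∀ y ∈ N, x * y * x⁻¹ * y⁻¹ = 1 := fun x hx y hy => by
      have := Subgroup.commutator_mem_commutator hx hy
      rwa [hNab, Subgroup.mem_bot, commutatorElement_def] at this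
    obtain ⟨q, hq, hqd⟩ := Nat.exists_prime_and_dvd (fun h => hNb (Subgroup.eq_bot_of_card_eq N h))
    haveI := Fact.mk hq
    obtain ⟨t, ht⟩ := exists_prime_orderOf_dvd_card' q hqd
    have hcom : ∀ x ∈ N, ∀ y ∈ N, Commute x y := fun x hx y hy =>
      mul_inv_eq_iff_eq_mul.mp (mul_inv_eq_one.mp (hNc x hx y hy))
    let T : Subgroup (X ⧸ A) :=
      { carrier := {x | x ∈ N ∧ x ^ q = 1}
        one_mem' := ⟨N.one_mem, one_pow q⟩
        mul_mem' := fun {x y} hx hy => ⟨N.mul_mem hx.1 hy.1, by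
          rw [(hcom x hx.1 y hy.1).mul_pow, hx.2, hy.2, one_mul]⟩
        inv_mem' := fun {x} hx => ⟨N.inv_mem hx.1, by rw [inv_pow, hx.2, inv_one]⟩ }
    haveI hTn : T.Normal := ⟨fun x hx g => ⟨hN.conj_mem x hx.1 g, by rw [conj_pow, hx.2]; group⟩⟩
    refine ⟨T.comap f, q, hq, inferInstance, fun a ha => ?_, fun x hx => ?_, fun h => ?_,
      fun x hx => ?_, fun x hx y hy => ?_⟩
    · rw [Subgroup.mem_comap, hf, QuotientGroup.mk'_apply, (QuotientGroup.eq_one_iff a).mpr ha]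
      exact one_mem _
    · have : f x ∈ X₀.map f := hNle hx.1
      rw [← Subgroup.mem_comap, Subgroup.comap_map_eq, hf, QuotientGroup.ker_mk',
        sup_eq_left.mpr hAX₀] at this
      exact this
    · obtain ⟨x, hx⟩ := hsurj t
      have hxT : x ∈ T.comap f := by
        rw [Subgroup.mem_comap, hx]
        exact ⟨t.2, by rw [← SubmonoidClass.coe_pow, ← ht, pow_orderOf_eq_one]; rfl⟩
      rw [h] at hxT
      have h1 : t = 1 := Subtype.ext (hx.symm.trans ((QuotientGroup.eq_one_iff x).mpr hxT))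
      rw [h1, orderOf_one] at ht
      exact hq.ne_one ht.symm
    · rw [← QuotientGroup.eq_one_iff]
      have : (f x) ^ q = 1 := hx.2
      rwa [← map_pow] at this
    · rw [← QuotientGroup.eq_one_iff]
      have := hNc _ hx.1 _ hy.1
      simp only [← map_inv, ← map_mul] at this
      exact this
  haveI := hBn
  haveI := Fact.mk hq
  have hcen : ∀ x ∈ B, ∀ a ∈ A, x * a = a * x := fun x hx a ha => (hX₀A x (hBX hx) a ha).symm
  have hz : ∀ x y : X, x * y = x * y * x⁻¹ * y⁻¹ * (y * x) := fun x y => by group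
  have hzq : ∀ x ∈ B, ∀ y ∈ B, (x * y * x⁻¹ * y⁻¹) ^ q = 1 := by
    intro x hx y hy
    have h := comm_pow_left (hz x y) (hcen x hx _ (hBcomm x hx y hy)) q
    rw [← hcen y hy _ (hBq x hx)] at h
    exact mul_right_cancel (h.symm.trans (one_mul _).symm)
  obtain ⟨x₁, hx₁, y₁, hy₁, hxy⟩ : ∃ x ∈ B, ∃ y ∈ B, x * y * x⁻¹ * y⁻¹ ≠ 1 := by
    by_contra h
    push Not at h
    exact hBne (hmax B hBn
      (fun a ha b hb => mul_inv_eq_iff_eq_mul.mp (mul_inv_eq_one.mp (h a ha b hb))) hAB)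
  obtain ⟨ζ, hζ'⟩ := hA _ (hBcomm x₁ hx₁ y₁ hy₁)
  have hqp : q ≠ p := by
    rintro rfl
    have h1 : orderOf (x₁ * y₁ * x₁⁻¹ * y₁⁻¹) = q := orderOf_eq_prime (hzq x₁ hx₁ y₁ hy₁) hxy
    exact hpA (h1 ▸ A.orderOf_dvd_natCard (hBcomm x₁ hx₁ y₁ hy₁))
  have hqF : (q : F) ≠ 0 := fun h => hqp
    ((Nat.prime_dvd_prime_iff_eq hp.out hq).mp ((CharP.cast_eq_zero_iff F p q).mp h)).symm
  have hζ : IsPrimitiveRoot ζ q := by
    have h1 : ζ ^ q = 1 := hσ (by rw [map_pow, hζ', ← map_pow, hzq x₁ hx₁ y₁ hy₁, map_one, map_one])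
    have h2 : ζ ≠ 1 := fun h => hxy (hρ (by rw [map_one, ← hζ', h, map_one]))
    rw [← orderOf_eq_prime h1 h2]
    exact IsPrimitiveRoot.orderOf ζ
  -- the commutator form
  have hJ0 : ∀ x y : B, ∃ i : ZMod q, σ (ζ ^ i.val) = ρ ((x : X) * y * (x : X)⁻¹ * (y : X)⁻¹) := by
    intro x y
    obtain ⟨r, hr⟩ := hA _ (hBcomm x x.2 y y.2)
    obtain ⟨i, hi, hi'⟩ := hζ.eq_pow_of_pow_eq_one (ξ := r) (hσ (by
      rw [map_pow, hr, ← map_pow, hzq x x.2 y y.2, map_one, map_one]))
    exact ⟨i, by rw [ZMod.val_natCast_of_lt hi, hi', hr]⟩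
  choose J hJ using hJ0
  have hJinj : ∀ i j : ZMod q, σ (ζ ^ i.val) = σ (ζ ^ j.val) → i = j := fun i j h =>
    ZMod.val_injective q (hζ.pow_inj (ZMod.val_lt i) (ZMod.val_lt j) (hσ h))
  have hζadd : ∀ i j : ZMod q, ζ ^ (i + j).val = ζ ^ i.val * ζ ^ j.val := fun i j => by
    rw [← pow_add, ZMod.val_add, ← pow_eq_pow_mod _ hζ.pow_eq_one]
  have hJeq : ∀ x y : B, ρ x * ρ y = σ (ζ ^ (J x y).val) * (ρ y * ρ x) := fun x y => by
    rw [hJ, ← map_mul, ← map_mul, ← map_mul, ← hz]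
  have hJuniq : ∀ (x y : B) (i : ZMod q), ρ x * ρ y = σ (ζ ^ i.val) * (ρ y * ρ x) → J x y = i := by
    intro x y i h
    refine hJinj _ _ ?_
    have h1 := congrArg (· * ρ ((y : X) * x)⁻¹) ((hJeq x y).symm.trans h)
    simp only [mul_assoc] at h1
    rwa [← map_mul, ← map_mul, ← mul_assoc (y : X), mul_inv_cancel, map_one,
      mul_one, mul_one] at h1
  have hJleft : ∀ x₁ x₂ y : B, J (x₁ * x₂) y = J x₁ y + J x₂ y := fun x₁ x₂ y => hJuniq _ _ _ (by
    rw [hζadd, map_mul σ, hJ, hJ, Subgroup.coe_mul, ← map_mul ρ, ← map_mul ρ, ← map_mul ρ,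
      ← map_mul ρ]
    congr 1
    rw [comm_mul_left (hz (x₁ : X) y) (hz (x₂ : X) y) (hcen _ x₁.2 _ (hBcomm _ x₂.2 _ y.2)),
      hAab _ (hBcomm _ x₂.2 _ y.2) _ (hBcomm _ x₁.2 _ y.2)])
  have hJdiag : ∀ x : B, J x x = 0 := fun x => hJuniq _ _ _ (by
    rw [ZMod.val_zero, pow_zero, map_one, one_mul])
  have hJanti : ∀ x y : B, J y x = - J x y := fun x y => hJuniq _ _ _ (by
    rw [hJeq x y, ← mul_assoc, ← map_mul σ, ← hζadd, neg_add_cancel, ZMod.val_zero, pow_zero,
      map_one, one_mul])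
  have hJA : ∀ (a y : B), (a : X) ∈ A → J a y = 0 := fun a y ha => hJuniq _ _ _ (by
    rw [ZMod.val_zero, pow_zero, map_one, one_mul, ← map_mul, ← map_mul, hcen _ y.2 _ ha])
  -- the space
  set A' := A.subgroupOf B with hA'
  haveI : A'.Normal := inferInstance
  letI : CommGroup (B ⧸ A') :=
    { (inferInstance : Group (B ⧸ A')) with
      mul_comm := fun a b => by
        obtain ⟨x, rfl⟩ := QuotientGroup.mk_surjective a
        obtain ⟨y, rfl⟩ := QuotientGroup.mk_surjective b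
        rw [← QuotientGroup.mk_mul, ← QuotientGroup.mk_mul, QuotientGroup.eq, hA',
          Subgroup.mem_subgroupOf]
        have := hBcomm _ (B.inv_mem y.2) _ (B.inv_mem x.2)
        simpa [mul_assoc] using this }
  let W := Additive (B ⧸ A')
  have hJmk : ∀ x x' y : B, (QuotientGroup.mk x : B ⧸ A') = QuotientGroup.mk x' → J x y = J x' y := by
    intro x x' y h
    rw [QuotientGroup.eq, hA', Subgroup.mem_subgroupOf] at h
    rw [show x' = x * (x⁻¹ * x') by group, hJleft, hJA (x⁻¹ * x') y h, add_zero]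
  let lift : W → B := fun w => (Additive.toMul w).out
  have hlift : ∀ w, (QuotientGroup.mk (lift w) : B ⧸ A') = Additive.toMul w := fun w =>
    QuotientGroup.out_eq' _
  have hJr : ∀ x y y' : B, (QuotientGroup.mk y : B ⧸ A') = QuotientGroup.mk y' → J x y = J x y' :=
    fun x y y' h => by rw [hJanti y x, hJanti y' x, hJmk y y' x h]
  have hcadd : ∀ (a b : W) (y : B), J (lift (a + b)) y = J (lift a) y + J (lift b) y := by
    intro a b y
    rw [← hJleft]
    refine hJmk _ _ _ ?_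
    rw [hlift, QuotientGroup.mk_mul, hlift, hlift, toMul_add]
  let c : W →+ W →+ ZMod q := AddMonoidHom.mk'
    (fun a => AddMonoidHom.mk' (fun b => J (lift a) (lift b)) fun b b' => by
      rw [hJanti, hcadd, neg_add, ← hJanti, ← hJanti])
    fun a a' => AddMonoidHom.ext fun b => hcadd a a' (lift b)
  have halt : ∀ w, c w w = 0 := fun w => hJdiag _
  -- the centre of `B` is `A`
  have hZ : ∀ x : B, (∀ y : B, J x y = 0) → (x : X) ∈ A := by
    intro x hx
    set Z := B ⊓ Subgroup.centralizer (B : Set X) with hZdef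
    haveI : (Subgroup.centralizer (B : Set X)).Normal := Subgroup.normal_centralizer
    have hZA : Z = A := hmax Z (Subgroup.normal_inf_normal _ _)
      (fun a ha b hb => Subgroup.mem_centralizer_iff.mp hb.2 a ha.1)
      (le_inf hAB fun a ha => Subgroup.mem_centralizer_iff.mpr fun b hb => hcen b hb a ha)
    rw [← hZA]
    refine ⟨x.2, Subgroup.mem_centralizer_iff.mpr fun y hy => ?_⟩
    apply hρ
    rw [map_mul, map_mul]
    have := hJeq x ⟨y, hy⟩
    rw [hx, ZMod.val_zero, pow_zero, map_one, one_mul] at this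
    exact this.symm
  have hnd : ∀ w, (∀ x, c w x = 0) → w = 0 := by
    intro w hw
    have hmem : (lift w : X) ∈ A := hZ _ fun y => by
      rw [hJr _ y (lift (Additive.ofMul (QuotientGroup.mk y))) (hlift (Additive.ofMul (QuotientGroup.mk y : B ⧸ A'))).symm]
      exact hw _
    have := hlift w
    rw [(QuotientGroup.eq_one_iff (lift w)).mpr (Subgroup.mem_subgroupOf.mpr hmem)] at this
    exact this.symm
  obtain ⟨s, eW, fW, hef, hee, hff, hoff, hspan⟩ := exists_pairs W c halt hnd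
  have hs1 : 0 < s := by
    rcases Nat.eq_zero_or_pos s with rfl | h
    · exfalso
      apply hBne
      refine le_antisymm (fun b hb => ?_) hAB
      have hbot : (⊤ : AddSubmonoid W) = ⊥ := by
        rw [← hspan, Set.range_eq_empty, Set.range_eq_empty, Set.union_empty,
          AddSubmonoid.closure_empty]
      have hz : ∀ w : W, w = 0 := fun w => by
        have : w ∈ (⊥ : AddSubmonoid W) := hbot ▸ (trivial : w ∈ (⊤ : AddSubmonoid W))
        exact this
      have h1 : (QuotientGroup.mk (⟨b, hb⟩ : B) : B ⧸ A') = 1 :=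
        congrArg Additive.toMul (hz (Additive.ofMul (QuotientGroup.mk (⟨b, hb⟩ : B) : B ⧸ A')))
      exact Subgroup.mem_subgroupOf.mp ((QuotientGroup.eq_one_iff (⟨b, hb⟩ : B)).mp h1)
    · exact h
  have hq2 : q ≠ 2 := by
    rintro rfl
    have h1 := orderOf_eq_prime (hzq x₁ hx₁ y₁ hy₁) hxy
    exact (Nat.not_even_iff_odd.2 hX) (even_iff_two_dvd.2 (h1 ▸ orderOf_dvd_natCard _))
  have hq3 : 3 ≤ q := lt_of_le_of_ne hq.two_le (Ne.symm hq2)
  let τ : W → AddMonoid.End V := fun w => ρ (lift w)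
  have hττ : ∀ a b, τ a * τ b = σ (ζ ^ (c a b).val) * (τ b * τ a) := fun a b => hJeq _ _
  have hτσ : ∀ r w, Commute (σ r) (τ w) := fun r w => (hX₀σ _ (hBX (lift w).2) r).symm
  have hτcomm : ∀ a b, c a b = 0 → Commute (τ a) (τ b) := fun a b h => by
    have := hττ a b
    rw [h, ZMod.val_zero, pow_zero, map_one, one_mul] at this
    exact this
  have hτq : ∀ w, ∃ r : F, r ≠ 0 ∧ τ w ^ q = σ r := fun w => by
    obtain ⟨r, hr⟩ := hA _ (hBq _ (lift w).2)
    refine ⟨r, fun h0 => ?_, by rw [hr, ← map_pow]⟩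
    rw [h0, map_zero] at hr
    have := congrArg (ρ ((lift w : X) ^ q)⁻¹ * ·) hr
    simp only [mul_zero, rho_inv_mul] at this
    exact zero_ne_one this
  have hpair : ∀ i : Fin s, ∃ (x z : AddMonoid.End V) (δ : F), δ ≠ 0 ∧ x ^ q = 1 ∧ z ^ q = σ δ ∧
      x * z = σ ζ * (z * x) ∧ (∀ r, Commute (σ r) x) ∧ (∀ r, Commute (σ r) z) ∧
      (∀ g, (∀ r, Commute g (σ r)) → Commute g (τ (eW i)) → Commute g (τ (fW i)) →
        Commute g x ∧ Commute g z) ∧
      ∀ P : AddMonoid.End V → Prop, (∀ r, P (σ r)) → (∀ a b, P a → P b → P (a * b)) →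
        ((P (τ (eW i)) → P (τ (fW i)) → P x ∧ P z) ∧
          (P x → P z → P (τ (eW i)) ∧ P (τ (fW i)))) := by
    intro i
    obtain ⟨β, hβ, hu⟩ := hτq (eW i)
    obtain ⟨a, ha, hv⟩ := hτq (fW i)
    refine exists_normal_pair σ hq2 hζ (fun r => hτσ r _) (fun r => hτσ r _) ?_ ha hβ hu hv
    have := hττ (eW i) (fW i)
    rwa [hef, ZMod.val_one, pow_one] at this
  choose xs zs δ hδ hxq hzq' hxz hσx hσz hgxz hP using hpair
  have hcross : ∀ i j : Fin s, i ≠ j → ∀ g, (g = τ (eW i) ∨ g = τ (fW i)) →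
      Commute g (xs j) ∧ Commute g (zs j) := by
    intro i j hij g hg
    rcases hg with rfl | rfl
    · exact hgxz j _ (fun r => (hτσ r _).symm) (hτcomm _ _ (hee i j)) (hτcomm _ _ (hoff i j hij))
    · refine hgxz j _ (fun r => (hτσ r _).symm) ?_ (hτcomm _ _ (hff i j))
      exact (hτcomm _ _ (hoff j i (Ne.symm hij))).symm
  let D : Heis F V q s :=
    { sc := σ
      ξ := ζ
      hξ := hζ
      hq0 := hqF
      x := xs
      z := zs
      δ := δ
      hδ := hδ
      scx := fun r i => hσx i r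
      scz := fun r i => hσz i r
      xx := fun i j => by
        by_cases hij : i = j
        · rw [hij]
        · exact ((hgxz i (xs j) (fun r => (hσx j r).symm) ((hcross i j hij _ (Or.inl rfl)).1.symm)
            ((hcross i j hij _ (Or.inr rfl)).1.symm)).1).symm
      zz := fun i j => by
        by_cases hij : i = j
        · rw [hij]
        · exact ((hgxz i (zs j) (fun r => (hσz j r).symm) ((hcross i j hij _ (Or.inl rfl)).2.symm)
            ((hcross i j hij _ (Or.inr rfl)).2.symm)).2).symm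
      xz := fun i j hij =>
        ((hgxz i (zs j) (fun r => (hσz j r).symm) ((hcross i j hij _ (Or.inl rfl)).2.symm)
          ((hcross i j hij _ (Or.inr rfl)).2.symm)).1).symm
      xzi := hxz
      xq := hxq
      zq := hzq' }
  let P : AddMonoid.End V → Prop := fun f => ∃ L, D.Mon f L
  have hPσ : ∀ r, P (σ r) := fun r => ⟨0, D.mon_sc r⟩
  have hPmul : ∀ a b, P a → P b → P (a * b) := fun a b ⟨L, ha⟩ ⟨M, hb⟩ => ⟨L + M, ha.mul D hb⟩
  have hmonB : ∀ b ∈ B, P (ρ b) := by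
    let T : AddSubmonoid W :=
      { carrier := {w | ∀ (b : B), Additive.ofMul (QuotientGroup.mk b : B ⧸ A') = w → P (ρ b)}
        zero_mem' := fun b hb => by
          obtain ⟨r, hr⟩ := hA b ((QuotientGroup.eq_one_iff b).mp (congrArg Additive.toMul hb))
          exact hr ▸ hPσ r
        add_mem' := fun {w w'} hw hw' b hb => by
          have hb2 : (b : X) = (lift w : X) * (((lift w)⁻¹ * b : B) : X) := by simp
          rw [hb2, map_mul]
          refine hPmul _ _ (hw _ (congrArg Additive.ofMul (hlift w))) (hw' _ ?_)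
          rw [QuotientGroup.mk_mul, QuotientGroup.mk_inv, hlift, ofMul_mul, ofMul_inv, hb]
          exact neg_add_cancel_left w w' }
    have hT : ∀ w, P (τ w) → w ∈ T := fun w hw b hb => by
      have hmem : ((lift w : X))⁻¹ * b ∈ A := by
        have : (QuotientGroup.mk ((lift w)⁻¹ * b) : B ⧸ A') = 1 := by
          rw [QuotientGroup.mk_mul, QuotientGroup.mk_inv, hlift, ← hb, toMul_ofMul, inv_mul_cancel]
        exact Subgroup.mem_subgroupOf.mp ((QuotientGroup.eq_one_iff ((lift w)⁻¹ * b : B)).mp this)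
      obtain ⟨r, hr⟩ := hA _ hmem
      rw [show (b : X) = (lift w : X) * ((lift w : X)⁻¹ * b) by group, map_mul, ← hr]
      exact hPmul _ _ hw (hPσ r)
    have htop : AddSubmonoid.closure (Set.range eW ∪ Set.range fW) ≤ T := by
      refine AddSubmonoid.closure_le.2 ?_
      rintro w (⟨i, rfl⟩ | ⟨i, rfl⟩)
      · exact hT _ (((hP i P hPσ hPmul).2 ⟨_, D.mon_x i⟩ ⟨_, D.mon_z i⟩).1)
      · exact hT _ (((hP i P hPσ hPmul).2 ⟨_, D.mon_x i⟩ ⟨_, D.mon_z i⟩).2)
    intro b hb
    exact htop (hspan ▸ trivial) ⟨b, hb⟩ rfl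
  -- conjugates of monomials
  have hconj : ∀ g : X, ∀ f, P f → ∃ f' L, D.Mon f' L ∧ ρ g * f = f' * ρ g := by
    intro g
    let Q : AddMonoid.End V → Prop := fun f => ∃ f' L, D.Mon f' L ∧ ρ g * f = f' * ρ g
    have hQσ : ∀ r, Q (σ r) := fun r => ⟨σ (α g r), 0, D.mon_sc _, hα g r⟩
    have hQmul : ∀ a b, Q a → Q b → Q (a * b) := fun a b ⟨a', L, ha, ea⟩ ⟨b', M, hb, eb⟩ =>
      ⟨a' * b', L + M, ha.mul D hb, by rw [← mul_assoc, ea, mul_assoc, eb, mul_assoc]⟩
    have hQτ : ∀ w, Q (τ w) := fun w => by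
      obtain ⟨L, hL⟩ := hmonB _ (hBn.conj_mem _ (lift w).2 g)
      exact ⟨_, L, hL, by rw [← map_mul, ← map_mul]; group⟩
    have hQxz : ∀ i, Q (xs i) ∧ Q (zs i) := fun i => (hP i Q hQσ hQmul).1 (hQτ _) (hQτ _)
    have hQpow : ∀ f, Q f → ∀ n, Q (f ^ n) := fun f hf n => by
      induction n with
      | zero => rw [pow_zero, ← map_one σ]; exact hQσ 1
      | succ n ih => rw [pow_succ]; exact hQmul _ _ ih hf
    rintro f ⟨L, κ, k, l, rfl, -⟩
    refine hQmul _ _ (hQσ κ) (hQmul _ _ ?_ ?_)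
    · refine Heis.vec_induction (P := fun k => Q (D.X k)) (by rw [D.X_zero, ← map_one σ]; exact hQσ 1)
        (fun a b ha hb => by rw [D.X_add]; exact hQmul _ _ ha hb)
        (fun i n => by rw [D.X_single]; exact hQpow _ (hQxz i).1 n) k
    · refine Heis.vec_induction (P := fun k => Q (D.Z k)) (by rw [D.Z_zero, ← map_one σ]; exact hQσ 1)
        (fun a b ha hb => by rw [D.Z_add]; exact hQmul _ _ ha hb)
        (fun i n => by rw [D.Z_single]; exact hQpow _ (hQxz i).2 n) l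
  -- the centralizer of `B`
  set C := Subgroup.centralizer (B : Set X) with hC
  haveI : C.Normal := Subgroup.normal_centralizer
  have hCX : C ≤ X₀ := fun g hg => Subgroup.mem_centralizer_iff.mpr fun a ha =>
    Subgroup.mem_centralizer_iff.mp hg a (hAB ha)
  have hCxz : ∀ g ∈ C, (∀ i, Commute (ρ g) (xs i)) ∧ (∀ i, Commute (ρ g) (zs i)) := by
    intro g hg
    have hτ : ∀ w, Commute (ρ g) (τ w) := fun w => by
      rw [Commute, SemiconjBy, ← map_mul, ← map_mul,
        Subgroup.mem_centralizer_iff.mp hg _ (lift w).2]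
    exact ⟨fun i => (hgxz i _ (hX₀σ g (hCX hg)) (hτ _) (hτ _)).1,
      fun i => (hgxz i _ (hX₀σ g (hCX hg)) (hτ _) (hτ _)).2⟩
  have hU : Inv (ρ.comp C.subtype) D.U := fun g v hv i => by
    show D.x i (ρ (g : X) v) = ρ (g : X) v
    rw [Heis.comm_apply ((hCxz g g.2).1 i).symm, hv i]
  have hslotne : ∀ i, ∀ v ∈ D.U, v ≠ 0 → D.slot (basisVec i) v ∉ D.U := by
    intro i v hv hv0 hmem
    have := D.slot_index_eq (c := basisVec i) (d := 0) hv hmem (by rw [D.slot_zero, CfsgLib.OddBase.one_apply'])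
      hv0
    have := congrFun this i
    simp [basisVec_apply] at this
  obtain ⟨a₁, ha₁, ha₁0⟩ : ∃ a ∈ D.U, a ≠ 0 := by
    by_contra h
    push Not at h
    have h10 : (1 : AddMonoid.End V) = 0 := D.eq_of_slots fun c u hu => by
      rw [h u hu, map_zero, map_zero, map_zero]
    exact one_ne_zero h10
  have hUlt : Nat.card D.U < Nat.card V := by
    refine lt_of_le_of_ne (AddSubgroup.card_le_card_addGroup _) fun h => ?_
    exact hslotne ⟨0, hs1⟩ a₁ ha₁ ha₁0 (AddSubgroup.eq_top_of_card_eq _ h ▸ AddSubgroup.mem_top _)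
  obtain ⟨a, b, hab⟩ := IH C (hX.of_dvd_nat C.card_subgroup_dvd_card) D.U hUlt _
    (cr_res _ (cr_comp_of_irreducible ρ hirr C) D.U hU)
  obtain ⟨a', b', ha0, hab'⟩ : ∃ a' b' : D.U, a' ≠ 0 ∧ ∀ g : C, ρ (g : X) (a' : V) = a' →
      ρ (g : X) (b' : V) = b' → res (ρ.comp C.subtype) D.U hU g = 1 := by
    by_cases ha : a = 0
    · by_cases hb : b = 0
      · refine ⟨⟨a₁, ha₁⟩, 0, fun h => ha₁0 (congrArg Subtype.val h), fun g _ _ =>
          hab g ?_ ?_⟩ <;> simp [ha, hb]
      · exact ⟨b, a, hb, fun g h1 h2 => hab g (Subtype.ext h2) (Subtype.ext h1)⟩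
    · exact ⟨a, b, ha, fun g h1 h2 => hab g (Subtype.ext h1) (Subtype.ext h2)⟩
  obtain ⟨w, hw⟩ := D.exists_rigid_vector hq3 hs1 a'.2 (fun h => ha0 (Subtype.ext h)) b'.2
  refine ⟨a', w, fun g hga hgw => ?_⟩
  obtain ⟨hgσ, hgx, hgz, hgb⟩ := hw (ρ g) (ρ g⁻¹) (Nat.card X) (α g) (rho_inv_mul ρ g) hX
    (by rw [← map_pow, pow_card_eq_one', map_one]) (hα g)
    (fun i => hconj g _ ⟨_, D.mon_x i⟩) (fun i => hconj g _ ⟨_, D.mon_z i⟩) hga hgw
  have hgC : g ∈ C := Subgroup.mem_centralizer_iff.mpr fun b hb => by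
    obtain ⟨L, κ, k, l, e, -⟩ := hmonB b hb
    apply hρ
    rw [map_mul, map_mul, e]
    refine (Commute.mul_right (hgσ κ) (Commute.mul_right ?_ ?_)).eq.symm
    · refine Heis.vec_induction (P := fun k => Commute (ρ g) (D.X k)) (by rw [D.X_zero]; exact Commute.one_right _)
        (fun a b ha hb => by rw [D.X_add]; exact ha.mul_right hb)
        (fun i n => by rw [D.X_single]; exact (hgx i).pow_right n) k
    · refine Heis.vec_induction (P := fun k => Commute (ρ g) (D.Z k)) (by rw [D.Z_zero]; exact Commute.one_right _)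
        (fun a b ha hb => by rw [D.Z_add]; exact ha.mul_right hb)
        (fun i n => by rw [D.Z_single]; exact (hgz i).pow_right n) l
  have hone := hab' ⟨g, hgC⟩ hga hgb
  refine D.eq_of_slots fun c u hu => ?_
  have hu' : ρ g u = u := congrArg (fun f : AddMonoid.End D.U => ((f ⟨u, hu⟩ : D.U) : V)) hone
  have hz : Commute (ρ g) (D.Z (Heis.lift c)) := by
    refine Heis.vec_induction (P := fun k => Commute (ρ g) (D.Z k)) (by rw [D.Z_zero]; exact Commute.one_right _)
      (fun a b ha hb => by rw [D.Z_add]; exact ha.mul_right hb)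
      (fun i n => by rw [D.Z_single]; exact (hgz i).pow_right n) _
  show ρ g (D.Z _ u) = D.Z _ u
  rw [Heis.comm_apply hz, hu']

end CfsgLib.OddBase
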