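import Mathlib

/-!
# A space monomial for a finite Heisenberg configuration

Operators `x i`, `z i` on a finite abelian group, linear over a finite field given by a ring map
`sc`, with `z i * x j = ζ ^ δ * (x j * z i)`.  The space is the direct sum of the slots
`Z c (U)`, where `U` is the common fixed space of the `x i`.
-/

set_option autoImplicit false

universe u

namespace CfsgLib.OddBase

/-- A Heisenberg configuration. -/
structure Heis (F : Type u) [Field F] (V : Type u) [AddCommGroup V] (q s : ℕ) where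
  /-- The scalars. -/
  sc : F →+* AddMonoid.End V
  /-- The root of unity by which `x` multiplies after `z`. -/
  ξ : F
  hξ : IsPrimitiveRoot ξ q
  hq0 : (q : F) ≠ 0
  /-- The diagonal operators. -/
  x : Fin s → AddMonoid.End V
  /-- The shifting operators. -/
  z : Fin s → AddMonoid.End V
  /-- The powers of the shifting operators. -/
  δ : Fin s → F
  hδ : ∀ i, δ i ≠ 0
  scx : ∀ r i, Commute (sc r) (x i)
  scz : ∀ r i, Commute (sc r) (z i)
  xx : ∀ i j, Commute (x i) (x j)
  zz : ∀ i j, Commute (z i) (z j)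
  xz : ∀ i j, i ≠ j → Commute (x i) (z j)
  xzi : ∀ i, x i * z i = sc ξ * (z i * x i)
  xq : ∀ i, x i ^ q = 1
  zq : ∀ i, z i ^ q = sc (δ i)

namespace Heis

variable {F : Type u} [Field F] {V : Type u} [AddCommGroup V] {q s : ℕ} [hq : Fact q.Prime]
  (D : Heis F V q s)

/-- The character of `ZMod q` given by `ξ`. -/
def ψ (a : ZMod q) : F := D.ξ ^ a.val

theorem ψ_natCast (n : ℕ) : D.ψ (n : ZMod q) = D.ξ ^ n := by
  rw [ψ, ZMod.val_natCast, ← pow_eq_pow_mod _ D.hξ.pow_eq_one]

theorem ψ_add (a b : ZMod q) : D.ψ (a + b) = D.ψ a * D.ψ b := by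
  rw [ψ, ψ, ψ, ← pow_add, ZMod.val_add, ← pow_eq_pow_mod _ D.hξ.pow_eq_one]

theorem ψ_zero : D.ψ 0 = 1 := by rw [ψ, ZMod.val_zero, pow_zero]

theorem ψ_eq_one {a : ZMod q} (h : D.ψ a = 1) : a = 0 := by
  have h1 : q ∣ a.val := (D.hξ.pow_eq_one_iff_dvd _).1 h
  have h2 := ZMod.val_lt a
  exact (ZMod.val_eq_zero a).1 (Nat.eq_zero_of_dvd_of_lt h1 h2)

theorem ψ_ne_zero (a : ZMod q) : D.ψ a ≠ 0 := pow_ne_zero _ (D.hξ.ne_zero hq.out.ne_zero)

theorem ψ_injective {a b : ZMod q} (h : D.ψ a = D.ψ b) : a = b := by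
  refine sub_eq_zero.1 (D.ψ_eq_one (mul_right_cancel₀ (D.ψ_ne_zero b) ?_))
  rw [← D.ψ_add, sub_add_cancel, h, one_mul]

theorem ψ_sum {ι : Type*} (t : Finset ι) (f : ι → ZMod q) :
    D.ψ (∑ i ∈ t, f i) = ∏ i ∈ t, D.ψ (f i) := by
  classical
  induction t using Finset.induction with
  | empty => simp [ψ_zero]
  | insert i t hi ih => rw [Finset.sum_insert hi, Finset.prod_insert hi, D.ψ_add, ih]

theorem ψ_sum_mul {c : ZMod q} (hc : c ≠ 0) : ∑ a : ZMod q, D.ψ (c * a) = 0 := by
  have h : D.ψ c * ∑ a : ZMod q, D.ψ (c * a) = ∑ a : ZMod q, D.ψ (c * a) := by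
    rw [Finset.mul_sum]
    refine Fintype.sum_equiv (Equiv.addRight (1 : ZMod q)) _ _ fun a => ?_
    rw [← D.ψ_add, Equiv.coe_addRight, mul_add, mul_one, add_comm]
  by_contra hne
  exact hc (D.ψ_eq_one (mul_right_cancel₀ hne (by rw [h, one_mul])))

theorem sum_apply' {ι : Type*} (t : Finset ι) (f : ι → AddMonoid.End V) (v : V) :
    (∑ i ∈ t, f i) v = ∑ i ∈ t, f i v :=
  AddMonoidHom.finsetSum_apply f t v

include hq in
theorem qm (n : ℕ) : (q - 1) * n + n = q * n := by
  rw [← Nat.succ_mul, Nat.succ_eq_add_one, Nat.sub_add_cancel hq.out.one_le]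

theorem sc_apply_mul (a b : F) (v : V) : D.sc (a * b) v = D.sc a (D.sc b v) := by
  rw [map_mul]; rfl

theorem sc_one_apply (v : V) : D.sc 1 v = v := by rw [map_one]; rfl

theorem sc_inv_apply {a : F} (ha : a ≠ 0) (v : V) : D.sc a⁻¹ (D.sc a v) = v := by
  rw [← sc_apply_mul, inv_mul_cancel₀ ha, sc_one_apply]

theorem sc_eq_zero {a : F} {v : V} (h : D.sc a v = 0) (hv : v ≠ 0) : a = 0 := by
  by_contra ha
  exact hv (by rw [← D.sc_inv_apply ha v, h, map_zero])

theorem sc_cancel {a b : F} {v : V} (h : D.sc a v = D.sc b v) (hv : v ≠ 0) : a = b := by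
  refine sub_eq_zero.1 (D.sc_eq_zero ?_ hv)
  rw [map_sub]
  exact sub_eq_zero.2 h

theorem comm_apply {f g : AddMonoid.End V} (h : Commute f g) (v : V) : f (g v) = g (f v) :=
  congrArg (fun k : AddMonoid.End V => k v) h.eq

/-- The monomials in the diagonal operators. -/
noncomputable def Xm : Multiplicative (Fin s → ℕ) →* AddMonoid.End V :=
  (MonoidHom.noncommPiCoprod (M := AddMonoid.End V) (N := fun _ : Fin s => Multiplicative ℕ)
    (fun i => powersHom (AddMonoid.End V) (D.x i))
    (fun i j _ a b => by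
      simp only [powersHom_apply]
      exact (D.xx i j).pow_pow _ _)).comp
    ({ toFun := fun m i => Multiplicative.ofAdd (Multiplicative.toAdd m i)
       map_one' := rfl
       map_mul' := fun _ _ => rfl } : Multiplicative (Fin s → ℕ) →* (Fin s → Multiplicative ℕ))

/-- The monomials in the shifting operators. -/
noncomputable def Zm : Multiplicative (Fin s → ℕ) →* AddMonoid.End V :=
  (MonoidHom.noncommPiCoprod (M := AddMonoid.End V) (N := fun _ : Fin s => Multiplicative ℕ)
    (fun i => powersHom (AddMonoid.End V) (D.z i))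
    (fun i j _ a b => by
      simp only [powersHom_apply]
      exact (D.zz i j).pow_pow _ _)).comp
    ({ toFun := fun m i => Multiplicative.ofAdd (Multiplicative.toAdd m i)
       map_one' := rfl
       map_mul' := fun _ _ => rfl } : Multiplicative (Fin s → ℕ) →* (Fin s → Multiplicative ℕ))

/-- A power product of the diagonal operators. -/
noncomputable def X (k : Fin s → ℕ) : AddMonoid.End V := D.Xm (Multiplicative.ofAdd k)

/-- A power product of the shifting operators. -/
noncomputable def Z (l : Fin s → ℕ) : AddMonoid.End V := D.Zm (Multiplicative.ofAdd l)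

theorem X_zero : D.X 0 = 1 := map_one D.Xm

theorem Z_zero : D.Z 0 = 1 := map_one D.Zm

theorem X_add (k l : Fin s → ℕ) : D.X (k + l) = D.X k * D.X l := map_mul D.Xm _ _

theorem Z_add (k l : Fin s → ℕ) : D.Z (k + l) = D.Z k * D.Z l := map_mul D.Zm _ _

theorem X_single (i : Fin s) (n : ℕ) : D.X (Pi.single i n) = D.x i ^ n := by
  have e : (fun k => Multiplicative.ofAdd ((Pi.single i n : Fin s → ℕ) k)) =
      Pi.mulSingle i (Multiplicative.ofAdd n) := by
    funext k
    by_cases h : k = i
    · subst h; simp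
    · simp [h]
  simp only [X, Z, Xm, Zm, MonoidHom.comp_apply, MonoidHom.coe_mk, OneHom.coe_mk, toAdd_ofAdd]
  rw [e]
  refine (MonoidHom.noncommPiCoprod_mulSingle (N := fun _ : Fin s => Multiplicative ℕ) _ i
    (Multiplicative.ofAdd n)).trans ?_
  rw [powersHom_apply, toAdd_ofAdd]

theorem Z_single (i : Fin s) (n : ℕ) : D.Z (Pi.single i n) = D.z i ^ n := by
  have e : (fun k => Multiplicative.ofAdd ((Pi.single i n : Fin s → ℕ) k)) =
      Pi.mulSingle i (Multiplicative.ofAdd n) := by
    funext k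
    by_cases h : k = i
    · subst h; simp
    · simp [h]
  simp only [X, Z, Xm, Zm, MonoidHom.comp_apply, MonoidHom.coe_mk, OneHom.coe_mk, toAdd_ofAdd]
  rw [e]
  refine (MonoidHom.noncommPiCoprod_mulSingle (N := fun _ : Fin s => Multiplicative ℕ) _ i
    (Multiplicative.ofAdd n)).trans ?_
  rw [powersHom_apply, toAdd_ofAdd]

/-- Induction over exponent vectors. -/
theorem vec_induction {P : (Fin s → ℕ) → Prop} (h0 : P 0) (hadd : ∀ a b, P a → P b → P (a + b))
    (hsingle : ∀ i n, P (Pi.single i n)) (k : Fin s → ℕ) : P k := by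
  classical
  rw [← Finset.univ_sum_single k]
  exact Finset.sum_induction _ P hadd h0 fun i _ => hsingle i _

theorem commute_X_sc (r : F) (k : Fin s → ℕ) : Commute (D.sc r) (D.X k) := by
  refine vec_induction (P := fun k => Commute (D.sc r) (D.X k)) (by rw [X_zero]; exact Commute.one_right _)
    (fun a b ha hb => by rw [X_add]; exact ha.mul_right hb)
    (fun i n => by rw [X_single]; exact (D.scx r i).pow_right n) k

theorem commute_Z_sc (r : F) (k : Fin s → ℕ) : Commute (D.sc r) (D.Z k) := by
  refine vec_induction (P := fun k => Commute (D.sc r) (D.Z k)) (by rw [Z_zero]; exact Commute.one_right _)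
    (fun a b ha hb => by rw [Z_add]; exact ha.mul_right hb)
    (fun i n => by rw [Z_single]; exact (D.scz r i).pow_right n) k

/-- The residue of an exponent vector. -/
def red (q : ℕ) (m : Fin s → ℕ) : Fin s → ZMod q := fun i => (m i : ZMod q)

theorem red_add (m m' : Fin s → ℕ) : red q (m + m') = red q m + red q m' := by
  funext i; simp [red]

theorem red_zero : red q (0 : Fin s → ℕ) = 0 := by funext i; simp [red]

theorem red_single (i : Fin s) (n : ℕ) :
    red q (Pi.single i n) = Pi.single i (n : ZMod q) := by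
  funext k; by_cases h : k = i
  · subst h; simp [red]
  · simp [red, h]

/-- The pairing. -/
def dot (a b : Fin s → ZMod q) : ZMod q := ∑ i, a i * b i

theorem dot_add_left (a a' b : Fin s → ZMod q) : dot (a + a') b = dot a b + dot a' b := by
  simp [dot, add_mul, Finset.sum_add_distrib]

theorem dot_add_right (a b b' : Fin s → ZMod q) : dot a (b + b') = dot a b + dot a b' := by
  simp [dot, mul_add, Finset.sum_add_distrib]

theorem dot_zero_right (a : Fin s → ZMod q) : dot a 0 = 0 := by simp [dot]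

theorem dot_single_right (a : Fin s → ZMod q) (i : Fin s) (n : ZMod q) :
    dot a (Pi.single i n) = a i * n := by
  simp [dot, Pi.single_apply]

theorem dot_single_left (b : Fin s → ZMod q) (i : Fin s) (n : ZMod q) :
    dot (Pi.single i n) b = n * b i := by
  simp [dot, Pi.single_apply]

theorem x_Z (i : Fin s) (m : Fin s → ℕ) :
    D.x i * D.Z m = D.sc (D.ψ (red q m i)) * (D.Z m * D.x i) := by
  refine vec_induction (P := fun m => D.x i * D.Z m = D.sc (D.ψ (red q m i)) * (D.Z m * D.x i))
    ?_ (fun a b ha hb => ?_) (fun j n => ?_) m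
  · simp [Z_zero, red, ψ_zero]
  · rw [Z_add, ← mul_assoc, ha, mul_assoc, mul_assoc, hb, ← mul_assoc (D.Z a),
      ← (D.commute_Z_sc _ a).eq, red_add, Pi.add_apply, D.ψ_add, map_mul]
    simp only [mul_assoc]
  · rw [Z_single, red_single]
    by_cases h : i = j
    · subst h
      rw [Pi.single_eq_same, D.ψ_natCast]
      induction n with
      | zero => simp
      | succ n ih =>
        rw [pow_succ' (D.z i), ← mul_assoc, D.xzi, mul_assoc, mul_assoc (D.z i) (D.x i), ih,
          ← mul_assoc (D.z i), ← (D.scz _ i).eq, pow_succ' D.ξ, map_mul]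
        simp only [mul_assoc]
    · rw [Pi.single_eq_of_ne h, D.ψ_zero, map_one, one_mul]
      exact ((D.xz i j h).pow_right n).eq

theorem X_Z (k m : Fin s → ℕ) :
    D.X k * D.Z m = D.sc (D.ψ (dot (red q k) (red q m))) * (D.Z m * D.X k) := by
  refine vec_induction
    (P := fun k => D.X k * D.Z m = D.sc (D.ψ (dot (red q k) (red q m))) * (D.Z m * D.X k))
    ?_ (fun a b ha hb => ?_) (fun i n => ?_) k
  · simp [X_zero, red_zero, dot, ψ_zero]
  · rw [X_add, mul_assoc, hb, ← mul_assoc, ← (D.commute_X_sc _ a).eq, mul_assoc,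
      ← mul_assoc (D.X a), ha, red_add, dot_add_left, D.ψ_add, mul_comm, map_mul]
    simp only [mul_assoc]
  · rw [X_single, red_single, dot_single_left]
    induction n with
    | zero => simp [ψ_zero]
    | succ n ih =>
      rw [pow_succ' (D.x i), mul_assoc, ih, ← mul_assoc, ← (D.scx _ i).eq, mul_assoc,
        ← mul_assoc (D.x i), D.x_Z, Nat.cast_succ, add_mul, one_mul, D.ψ_add, map_mul]
      simp only [mul_assoc]

theorem Z_mul_q (c : Fin s → ℕ) :
    D.Z (fun i => q * c i) = D.sc (∏ i, D.δ i ^ c i) := by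
  classical
  have h : ∀ t : Finset (Fin s), D.Z (fun i => if i ∈ t then q * c i else 0) =
      D.sc (∏ i ∈ t, D.δ i ^ c i) := by
    intro t
    induction t using Finset.induction with
    | empty => simp only [Finset.notMem_empty, if_false, Finset.prod_empty, map_one]; exact D.Z_zero
    | insert i t hi ih =>
      have : (fun j => if j ∈ insert i t then q * c j else 0) =
          Pi.single i (q * c i) + fun j => if j ∈ t then q * c j else 0 := by
        funext j
        by_cases hj : j = i
        · subst hj; simp [hi]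
        · simp [hj]
      rw [this, Z_add, ih, Z_single, pow_mul, D.zq, Finset.prod_insert hi, map_mul, map_pow]
  simpa using h Finset.univ

/-- The lift of a residue vector. -/
def lift (c : Fin s → ZMod q) : Fin s → ℕ := fun i => (c i).val

theorem red_lift (c : Fin s → ZMod q) : red q (lift c) = c := by
  funext i; simp [red, lift]

theorem Z_reduce (m : Fin s → ℕ) :
    ∃ d : F, d ≠ 0 ∧ D.Z m = D.sc d * D.Z (lift (red q m)) := by
  refine ⟨∏ i, D.δ i ^ (m i / q),
    Finset.prod_ne_zero_iff.2 fun i _ => pow_ne_zero _ (D.hδ i), ?_⟩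
  rw [← Z_mul_q, ← Z_add]
  congr 1
  funext i
  show m i = q * (m i / q) + (m i : ZMod q).val
  rw [ZMod.val_natCast, Nat.div_add_mod]

/-- The common fixed space of the diagonal operators. -/
def U : AddSubgroup V where
  carrier := {v | ∀ i, D.x i v = v}
  zero_mem' := fun i => map_zero _
  add_mem' := fun {a b} ha hb i => by rw [map_add, ha i, hb i]
  neg_mem' := fun {a} ha i => by rw [map_neg, ha i]

theorem mem_U {v : V} : v ∈ D.U ↔ ∀ i, D.x i v = v := Iff.rfl

theorem sc_mem {v : V} (h : v ∈ D.U) (r : F) : D.sc r v ∈ D.U := fun i => by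
  rw [← comm_apply (D.scx r i), h i]

theorem X_fix (k : Fin s → ℕ) {v : V} (hv : v ∈ D.U) : D.X k v = v := by
  refine vec_induction (P := fun k => D.X k v = v) (by rw [X_zero]; rfl)
    (fun a b ha hb => by rw [X_add]; show D.X a (D.X b v) = v; rw [hb, ha]) (fun i n => ?_) k
  rw [X_single]
  induction n with
  | zero => rfl
  | succ n ih => rw [pow_succ']; show D.x i ((D.x i ^ n) v) = v; rw [ih, hv i]

theorem X_Z_fix (k m : Fin s → ℕ) {v : V} (hv : v ∈ D.U) :
    D.X k (D.Z m v) = D.sc (D.ψ (dot (red q k) (red q m))) (D.Z m v) := by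
  have := congrArg (fun f : AddMonoid.End V => f v) (D.X_Z k m)
  show D.X k (D.Z m v) = _
  rw [show D.X k (D.Z m v) = (D.X k * D.Z m) v from rfl, D.X_Z]
  show D.sc _ (D.Z m (D.X k v)) = _
  rw [D.X_fix k hv]

/-- The slot with index `c`. -/
noncomputable def slot (c : Fin s → ZMod q) : AddMonoid.End V := D.Z (lift c)

theorem slot_zero : D.slot 0 = 1 := by
  rw [slot, show lift (0 : Fin s → ZMod q) = 0 from funext fun i => ZMod.val_zero, Z_zero]

theorem X_slot (k : Fin s → ℕ) (c : Fin s → ZMod q) {v : V} (hv : v ∈ D.U) :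
    D.X k (D.slot c v) = D.sc (D.ψ (dot (red q k) c)) (D.slot c v) := by
  rw [slot, D.X_Z_fix k _ hv, red_lift]

/-- The projection onto the slot `c`. -/
noncomputable def proj (c : Fin s → ZMod q) (v : V) : V :=
  D.sc ((Fintype.card (Fin s → ZMod q) : F))⁻¹
    (∑ k : Fin s → ZMod q, D.sc (D.ψ (- dot k c)) (D.X (lift k) v))

include D in
theorem card_ne_zero : (Fintype.card (Fin s → ZMod q) : F) ≠ 0 := by
  rw [Fintype.card_fun, ZMod.card, Fintype.card_fin, Nat.cast_pow]
  exact pow_ne_zero _ D.hq0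

theorem sum_ψ_dot (c : Fin s → ZMod q) :
    ∑ k : Fin s → ZMod q, D.ψ (dot k c) =
      if c = 0 then (Fintype.card (Fin s → ZMod q) : F) else 0 := by
  classical
  split_ifs with h
  · subst h; simp [dot_zero_right, ψ_zero]
  · have e : ∀ k : Fin s → ZMod q, D.ψ (dot k c) = ∏ i, D.ψ (c i * k i) := fun k => by
      rw [dot, D.ψ_sum]; simp only [mul_comm]
    obtain ⟨i, hi⟩ := Function.ne_iff.1 h
    simp only [e, ← Fintype.prod_sum (fun i a => D.ψ (c i * a))]
    exact Finset.prod_eq_zero (Finset.mem_univ i) (D.ψ_sum_mul hi)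

theorem proj_slot (c d : Fin s → ZMod q) {v : V} (hv : v ∈ D.U) :
    D.proj c (D.slot d v) = if d = c then D.slot d v else 0 := by
  classical
  have h : ∀ k : Fin s → ZMod q, D.sc (D.ψ (- dot k c)) (D.X (lift k) (D.slot d v)) =
      D.sc (D.ψ (dot k (d + -c))) (D.slot d v) := fun k => by
    rw [D.X_slot _ _ hv, red_lift, ← sc_apply_mul, ← D.ψ_add, dot_add_right, add_comm]
    congr 3
    simp [dot]
  rw [proj]
  simp only [h]
  rw [← sum_apply', ← map_sum, D.sum_ψ_dot]
  by_cases hdc : d = c
  · rw [if_pos (by rw [hdc, add_neg_cancel]), if_pos hdc, D.sc_inv_apply D.card_ne_zero]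
  · rw [if_neg fun e => hdc (add_neg_eq_zero.1 e), if_neg hdc, map_zero D.sc]
    simp

theorem proj_add (c : Fin s → ZMod q) (v w : V) : D.proj c (v + w) = D.proj c v + D.proj c w := by
  simp only [proj, map_add, Finset.sum_add_distrib]

/-- The projection as a homomorphism. -/
noncomputable def projHom (c : Fin s → ZMod q) : V →+ V := AddMonoidHom.mk' (D.proj c) (D.proj_add c)

theorem slot_injective (c : Fin s → ZMod q) {v : V} (h : D.slot c v = 0) : v = 0 := by
  have h1 : (D.Z (fun i => (q - 1) * lift c i) * D.slot c) v = 0 := by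
    show D.Z _ (D.slot c v) = 0
    rw [h, map_zero]
  rw [slot, ← Z_add, show (fun i => (q - 1) * lift c i) + lift c = fun i => q * lift c i from
    funext fun i => qm (lift c i), Z_mul_q] at h1
  by_contra hv
  exact Finset.prod_ne_zero_iff.2 (fun i _ => pow_ne_zero _ (D.hδ i)) (D.sc_eq_zero h1 hv)

/-- Vectors of different slots are different. -/
theorem slot_index_eq {c d : Fin s → ZMod q} {v w : V} (hv : v ∈ D.U) (hw : w ∈ D.U)
    (h : D.slot c v = D.slot d w) (hne : v ≠ 0) : c = d := by
  by_contra hcd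
  have := congrArg (D.proj c) h
  rw [D.proj_slot c c hv, if_pos rfl, D.proj_slot c d hw, if_neg (Ne.symm hcd)] at this
  exact hne (D.slot_injective c this)

theorem sum_proj (v : V) : ∑ c, D.proj c v = v := by
  classical
  simp only [proj]
  rw [← map_sum, Finset.sum_comm]
  have h : ∀ k : Fin s → ZMod q, ∑ c : Fin s → ZMod q, D.sc (D.ψ (- dot k c)) (D.X (lift k) v) =
      D.sc (if -k = 0 then (Fintype.card (Fin s → ZMod q) : F) else 0) (D.X (lift k) v) := fun k => by
    rw [← D.sum_ψ_dot, map_sum]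
    rw [sum_apply']
    refine Finset.sum_congr rfl fun c _ => ?_
    congr 3
    simp [dot, mul_comm]
  simp only [h]
  rw [Finset.sum_eq_single 0]
  · rw [if_pos neg_zero, D.sc_inv_apply D.card_ne_zero,
      show lift (0 : Fin s → ZMod q) = 0 from funext fun i => ZMod.val_zero, X_zero]
    rfl
  · intro k _ hk
    rw [if_neg (fun e => hk (neg_eq_zero.1 e)), map_zero]
    rfl
  · exact fun e => absurd (Finset.mem_univ _) e

theorem x_proj (i : Fin s) (c : Fin s → ZMod q) (v : V) :
    D.x i (D.proj c v) = D.sc (D.ψ (c i)) (D.proj c v) := by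
  classical
  have hadd : ∀ k : Fin s → ZMod q, D.x i (D.X (lift k) v) =
      D.X (lift (k + Pi.single i 1)) v := by
    intro k
    have hXq : ∀ (m : Fin s → ℕ), D.X (fun j => q * m j) = 1 := by
      intro m
      have h2 := vec_induction (P := fun m => D.X (fun j => q * m j) = 1)
        (by rw [show (fun j => q * (0 : Fin s → ℕ) j) = 0 from funext fun j => mul_zero q, X_zero])
        (fun a b ha hb => by
          rw [show (fun j => q * (a + b) j) = (fun j => q * a j) + fun j => q * b j from
            funext fun j => mul_add q _ _, X_add, ha, hb, one_mul])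
        (fun j n => by
          rw [show (fun k => q * (Pi.single j n : Fin s → ℕ) k) = Pi.single j (q * n) from
            funext fun k => by by_cases h : k = j <;> simp [h], X_single, pow_mul, D.xq, one_pow]) m
      exact h2
    have hred : ∀ m : Fin s → ℕ, D.X m = D.X (lift (red q m)) := by
      intro m
      have := D.X_add (fun j => q * (m j / q)) (lift (red q m))
      rw [hXq, one_mul] at this
      rw [← this]
      congr 1
      funext j
      show m j = q * (m j / q) + (m j : ZMod q).val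
      rw [ZMod.val_natCast, Nat.div_add_mod]
    have e : D.x i * D.X (lift k) = D.X (lift (k + Pi.single i 1)) := by
      rw [show D.x i * D.X (lift k) = D.X (Pi.single i 1 + lift k) by rw [X_add, X_single, pow_one],
        hred, red_add, red_lift, red_single, Nat.cast_one, add_comm]
    exact congrArg (fun f : AddMonoid.End V => f v) e
  simp only [proj]
  have h : D.x i (∑ k : Fin s → ZMod q, D.sc (D.ψ (- dot k c)) (D.X (lift k) v)) =
      D.sc (D.ψ (c i)) (∑ k : Fin s → ZMod q, D.sc (D.ψ (- dot k c)) (D.X (lift k) v)) := by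
    rw [map_sum, map_sum]
    refine Fintype.sum_equiv (Equiv.addRight (Pi.single i (1 : ZMod q) : Fin s → ZMod q)) _ _ fun k => ?_
    rw [← comm_apply (D.scx _ i), hadd, Equiv.coe_addRight, ← sc_apply_mul, ← D.ψ_add,
      dot_add_left, dot_single_left, one_mul, neg_add, add_comm (- dot k c), add_neg_cancel_left]
  rw [← comm_apply (D.scx _ i), h, ← sc_apply_mul, mul_comm, sc_apply_mul]

theorem exists_slot (c : Fin s → ZMod q) {w : V} (hw : ∀ i, D.x i w = D.sc (D.ψ (c i)) w) :
    ∃ u ∈ D.U, D.slot c u = w := by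
  set d : F := ∏ i, D.δ i ^ lift c i with hd
  have hd0 : d ≠ 0 := Finset.prod_ne_zero_iff.2 fun i _ => pow_ne_zero _ (D.hδ i)
  set m : Fin s → ℕ := fun i => (q - 1) * lift c i with hm
  have hmc : lift c + m = fun i => q * lift c i := funext fun i =>
    (add_comm _ _).trans (qm (lift c i))
  refine ⟨D.sc d⁻¹ (D.Z m w), fun i => ?_, ?_⟩
  · have h0 : red q m i + c i = 0 := by
      have := congrFun (congrArg (red q) hmc) i
      rw [red_add, Pi.add_apply, red_lift] at this
      rw [add_comm, this]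
      simp [red]
    have := congrArg (fun f : AddMonoid.End V => f w) (D.x_Z i m)
    rw [← comm_apply (D.scx _ i), show D.x i (D.Z m w) = (D.x i * D.Z m) w from rfl, D.x_Z]
    show D.sc d⁻¹ (D.sc _ (D.Z m (D.x i w))) = _
    rw [hw i, ← comm_apply (D.commute_Z_sc _ m), ← sc_apply_mul (a := D.ψ (red q m i)), ← D.ψ_add,
      h0, D.ψ_zero, sc_one_apply]
  · rw [slot, ← comm_apply (D.commute_Z_sc _ _),
      show D.Z (lift c) (D.Z m w) = (D.Z (lift c) * D.Z m) w from rfl, ← Z_add, hmc, Z_mul_q,
      D.sc_inv_apply hd0]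

/-- An additive map killing all slots is zero. -/
theorem eq_of_slots {f g : AddMonoid.End V}
    (h : ∀ c, ∀ u ∈ D.U, f (D.slot c u) = g (D.slot c u)) : f = g := by
  refine DFunLike.ext _ _ fun v => ?_
  rw [← D.sum_proj v, map_sum, map_sum]
  refine Finset.sum_congr rfl fun c _ => ?_
  obtain ⟨u, hu, e⟩ := D.exists_slot c (fun i => D.x_proj i c v)
  rw [← e, h c u hu]

/-- A scalar times a monomial with the given shift residue. -/
def Mon (f : AddMonoid.End V) (L : Fin s → ZMod q) : Prop :=
  ∃ (κ : F) (k l : Fin s → ℕ), f = D.sc κ * (D.X k * D.Z l) ∧ red q l = L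

theorem Mon.mul {f g : AddMonoid.End V} {L M : Fin s → ZMod q} (hf : D.Mon f L) (hg : D.Mon g M) :
    D.Mon (f * g) (L + M) := by
  obtain ⟨κ, k, l, rfl, rfl⟩ := hf
  obtain ⟨κ', k', l', rfl, rfl⟩ := hg
  refine ⟨κ * κ' * (D.ψ (dot (red q k') (red q l)))⁻¹, k + k', l + l', ?_, red_add l l'⟩
  have hne := D.ψ_ne_zero (dot (red q k') (red q l))
  have hz : D.Z l * D.X k' = D.sc (D.ψ (dot (red q k') (red q l)))⁻¹ * (D.X k' * D.Z l) := by
    rw [D.X_Z, ← mul_assoc, ← map_mul, inv_mul_cancel₀ hne, map_one, one_mul]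
  calc D.sc κ * (D.X k * D.Z l) * (D.sc κ' * (D.X k' * D.Z l'))
      = D.sc κ * (D.X k * D.Z l * D.sc κ') * (D.X k' * D.Z l') := by simp only [mul_assoc]
    _ = D.sc κ * (D.sc κ' * (D.X k * D.Z l)) * (D.X k' * D.Z l') := by
      rw [((D.commute_X_sc κ' k).mul_right (D.commute_Z_sc κ' l)).eq]
    _ = D.sc κ * D.sc κ' * (D.X k * (D.Z l * D.X k') * D.Z l') := by simp only [mul_assoc]
    _ = D.sc κ * D.sc κ' * (D.sc (D.ψ (dot (red q k') (red q l)))⁻¹ * D.X k *
          (D.X k' * D.Z l) * D.Z l') := by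
      rw [hz, ← mul_assoc (D.X k), ← (D.commute_X_sc _ k).eq]
    _ = _ := by rw [map_mul, map_mul, X_add, Z_add]; simp only [mul_assoc]

theorem mon_sc (κ : F) : D.Mon (D.sc κ) 0 :=
  ⟨κ, 0, 0, by rw [X_zero, Z_zero, one_mul, mul_one], red_zero⟩

theorem mon_x (i : Fin s) : D.Mon (D.x i) 0 :=
  ⟨1, Pi.single i 1, 0, by rw [X_single, Z_zero, map_one, one_mul, mul_one, pow_one], red_zero⟩

theorem mon_z (i : Fin s) : D.Mon (D.z i) (Pi.single i 1) :=
  ⟨1, 0, Pi.single i 1, by rw [X_zero, Z_single, map_one, one_mul, one_mul, pow_one],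
    by rw [red_single, Nat.cast_one]⟩

end Heis

end CfsgLib.OddBase
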