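import Cfsg.Agent.Lib.OddBase.Basic
import Cfsg.Agent.Lib.OddOrder.Solvable

/-!
# A subset with trivial stabilizer for a permutation group of odd order

Given the existence of two-vector bases for smaller modules, every permutation group of odd order
has a subset whose stabilizer is trivial.
-/

set_option autoImplicit false

universe u

namespace CfsgLib.OddBase

theorem fix_of_apply_apply {Ω : Type*} {g : Equiv.Perm Ω} {o : ℕ} (ho : Odd o) (hg : g ^ o = 1)
    {x : Ω} (h : g (g x) = x) : g x = x := by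
  have heven : ∀ k : ℕ, (g ^ (2 * k)) x = x := by
    intro k
    induction k with
    | zero => simp
    | succ k ih =>
      rw [show 2 * (k + 1) = 2 + 2 * k by ring, pow_add, Equiv.Perm.mul_apply, ih, pow_two,
        Equiv.Perm.mul_apply, h]
  obtain ⟨k, rfl⟩ := ho
  have := congrArg (fun f : Equiv.Perm Ω => f x) hg
  rw [pow_succ', Equiv.Perm.one_apply, Equiv.Perm.mul_apply, heven] at this
  exact this

theorem fix_pair {Ω : Type*} {g : Equiv.Perm Ω} {o : ℕ} (ho : Odd o) (hg : g ^ o = 1)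
    {a d : Ω} (ha : g a = a ∨ g a = d) (hd : g d = a ∨ g d = d) : g a = a ∧ g d = d := by
  rcases ha with ha | ha
  · refine ⟨ha, hd.elim (fun h => ?_) id⟩
    rw [g.injective (h.trans ha.symm)]
    exact ha
  · rcases hd with hd | hd
    · have h1 : g a = a := fix_of_apply_apply ho hg (by rw [ha, hd])
      have h2 : a = d := h1.symm.trans ha
      exact ⟨h1, by rw [← h2, h1]⟩
    · have h2 : a = d := g.injective (ha.trans hd.symm)
      exact ⟨by rw [h2]; exact hd, hd⟩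

theorem sq_injective {N : Type*} [Group N] [Finite N] (hodd : Odd (Nat.card N)) {x y : N}
    (h : x ^ 2 = y ^ 2) : x = y :=
  (powCoprime (n := 2) ((Nat.coprime_two_left.2 hodd).symm)).injective (by simpa using h)

/-- The regular case. -/
theorem exists_subset_regular {Ω : Type u} [Finite Ω] (G : Subgroup (Equiv.Perm Ω))
    (hodd : Odd (Nat.card G)) (N : Subgroup G) [N.Normal]
    (hab : ∀ a ∈ N, ∀ b ∈ N, a * b = b * a)
    (hmin : ∀ M : Subgroup G, M.Normal → M ≤ N → M = ⊥ ∨ M = N) (a₀ : Ω)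
    (htr : ∀ b, ∃ n ∈ N, (n : G).1 a₀ = b) (IH : SmallBase.{u, u} (Nat.card Ω + 1)) :
    ∃ S : Set Ω, ∀ g : G, (∀ x, x ∈ S ↔ g.1 x ∈ S) → g = 1 := by
  classical
  have hfree : ∀ n m : N, (n : G).1 a₀ = (m : G).1 a₀ → n = m := by
    intro n m h
    apply Subtype.ext; apply Subtype.ext
    ext b
    obtain ⟨k, hk, rfl⟩ := htr b
    have e1 := hab n n.2 k hk
    have e2 := hab m m.2 k hk
    show ((n : G) * k : G).1 a₀ = ((m : G) * k : G).1 a₀
    rw [e1, e2]
    show k.1 ((n : G).1 a₀) = k.1 ((m : G).1 a₀)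
    rw [h]
  have hcard : Nat.card N = Nat.card Ω := by
    refine Nat.card_congr (Equiv.ofBijective (fun n : N => (n : G).1 a₀) ⟨fun n m h => hfree n m h,
      fun b => ?_⟩)
    obtain ⟨n, hn, e⟩ := htr b
    exact ⟨⟨n, hn⟩, e⟩
  letI : CommGroup N :=
    { (inferInstance : Group N) with mul_comm := fun a b => Subtype.ext (hab a a.2 b b.2) }
  let H : Subgroup G :=
    { carrier := {g | g.1 a₀ = a₀}
      one_mem' := rfl
      mul_mem' := fun {g h} hg hh => by
        show g.1 (h.1 a₀) = a₀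
        rw [show h.1 a₀ = a₀ from hh]; exact hg
      inv_mem' := fun {g} hg => by
        show g.1⁻¹ a₀ = a₀
        rw [Equiv.Perm.inv_eq_iff_eq]
        exact (show g.1 a₀ = a₀ from hg).symm }
  let σ : H →* AddMonoid.End (Additive N) :=
    { toFun := fun h => MonoidHom.toAdditive ((MulAut.conjNormal (h : G) : MulAut N).toMonoidHom)
      map_one' := ext_end fun w => by simp [one_apply']; rfl
      map_mul' := fun g h => ext_end fun w => by simp [mul_apply']; rfl }
  have hσ : ∀ (h : H) (n : N), ((Additive.toMul (σ h (Additive.ofMul n)) : N) : G) =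
      (h : G) * n * (h : G)⁻¹ := fun h n => MulAut.conjNormal_apply _ _
  have hirr : ∀ U, Inv σ U → U = ⊥ ∨ U = ⊤ := by
    intro U hU
    let M : Subgroup G :=
      { carrier := {g | ∃ hg : g ∈ N, Additive.ofMul (⟨g, hg⟩ : N) ∈ U}
        one_mem' := ⟨N.one_mem, U.zero_mem⟩
        mul_mem' := by
          rintro a b ⟨ha, ha'⟩ ⟨hb, hb'⟩
          exact ⟨N.mul_mem ha hb, U.add_mem ha' hb'⟩
        inv_mem' := by
          rintro a ⟨ha, ha'⟩
          exact ⟨N.inv_mem ha, U.neg_mem ha'⟩ }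
    have hMn : M.Normal := ⟨fun m hm g => by
      obtain ⟨hm, hm'⟩ := hm
      obtain ⟨k, hk, hka⟩ := htr (g.1 a₀)
      have hh : k⁻¹ * g ∈ H := by
        show k.1⁻¹ (g.1 a₀) = a₀
        rw [← hka]; simp
      set h : H := ⟨k⁻¹ * g, hh⟩ with hhdef
      have hg : g * m * g⁻¹ = (h : G) * m * (h : G)⁻¹ := by
        have hin := ‹N.Normal›.conj_mem m hm (k⁻¹ * g)
        show g * m * g⁻¹ = k⁻¹ * g * m * (k⁻¹ * g)⁻¹
        calc g * m * g⁻¹ = k * (k⁻¹ * g * m * (k⁻¹ * g)⁻¹) * k⁻¹ := by group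
          _ = _ := by rw [hab k hk _ hin, mul_inv_cancel_right]
      refine ⟨‹N.Normal›.conj_mem m hm g, ?_⟩
      have := hU h _ hm'
      convert this using 1
      exact congrArg Additive.ofMul (Subtype.ext (hg.trans (hσ h ⟨m, hm⟩).symm))⟩
    rcases hmin M hMn (fun g hg => hg.1) with e | e
    · left
      refine (AddSubgroup.eq_bot_iff_forall _).2 fun w hw => ?_
      have : ((Additive.toMul w : N) : G) ∈ M := ⟨(Additive.toMul w).2, hw⟩
      rw [e, Subgroup.mem_bot, OneMemClass.coe_eq_one] at this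
      exact congrArg Additive.ofMul this
    · right
      refine eq_top_iff.2 fun w _ => ?_
      have : ((Additive.toMul w : N) : G) ∈ M := by rw [e]; exact (Additive.toMul w).2
      exact this.2
  have hcr : CR σ := by
    intro U hU
    rcases hirr U hU with rfl | rfl
    · exact ⟨⊤, fun g x _ => AddSubgroup.mem_top _, bot_inf_eq _, bot_sup_eq _⟩
    · exact ⟨⊥, fun g x hx => by rw [AddSubgroup.mem_bot.1 hx, map_zero]; exact zero_mem _,
        inf_bot_eq _, sup_bot_eq _⟩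
  obtain ⟨v', w', hvw⟩ := IH H (hodd.of_dvd_nat H.card_subgroup_dvd_card) (Additive N)
    (by show Nat.card N < _; omega) σ hcr
  set v : N := Additive.toMul v' with hv
  set w : N := Additive.toMul w' with hw
  let P : N → Ω := fun n => (n : G).1 a₀
  have fixcomm : ∀ g : G, g.1 a₀ = a₀ → ∀ n : N, g.1 (P n) = P n → g * n * g⁻¹ = n := by
    intro g hg n hn
    have := hfree ⟨g * n * g⁻¹, ‹N.Normal›.conj_mem n n.2 g⟩ n (by
      show g.1 ((n : G).1 (g.1⁻¹ a₀)) = _
      rw [Equiv.Perm.inv_eq_iff_eq.2 hg.symm]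
      exact hn)
    exact congrArg Subtype.val this
  have final : ∀ g : G, g.1 a₀ = a₀ → g.1 (P v) = P v → g.1 (P w) = P w → g = 1 := by
    intro g hg h1 h2
    have e := hvw ⟨g, hg⟩
      (congrArg Additive.ofMul (Subtype.ext ((hσ ⟨g, hg⟩ v).trans (fixcomm g hg v h1))) :)
      (congrArg Additive.ofMul (Subtype.ext ((hσ ⟨g, hg⟩ w).trans (fixcomm g hg w h2))) :)
    apply Subtype.ext
    ext b
    obtain ⟨n, hn, rfl⟩ := htr b
    have e' := congrArg (fun f : AddMonoid.End (Additive N) =>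
      ((Additive.toMul (f (Additive.ofMul ⟨n, hn⟩)) : N) : G)) e
    simp only [hσ, one_apply', toMul_ofMul] at e'
    show g.1 (n.1 a₀) = n.1 a₀
    conv_rhs => rw [← e']
    show _ = g.1 (n.1 (g.1⁻¹ a₀))
    rw [Equiv.Perm.inv_eq_iff_eq.2 hg.symm]
  have hord : ∀ g : G, g.1 ^ Nat.card G = 1 := fun g => by
    rw [← SubmonoidClass.coe_pow, pow_card_eq_one']; rfl
  -- one vector suffices
  by_cases hone : ∃ u : N, ∀ g : G, g.1 a₀ = a₀ → g.1 (P u) = P u → g = 1
  · obtain ⟨u, hu⟩ := hone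
    refine ⟨{a₀, P u}, fun g hg => ?_⟩
    have h1 := (hg a₀).1 (Or.inl rfl)
    have h2 := (hg (P u)).1 (Or.inr rfl)
    obtain ⟨e1, e2⟩ := fix_pair hodd (hord g) h1 h2
    exact hu g e1 e2
  push Not at hone
  have hone' : ∀ u : N, ¬ ∀ g : G, g.1 a₀ = a₀ → g.1 (P u) = P u → g = 1 := fun u h => by
    obtain ⟨g, h1, h2, h3⟩ := hone u
    exact h3 (h g h1 h2)
  have hP1 : P 1 = a₀ := rfl
  have hv1 : v ≠ 1 := fun e => hone' w fun g h1 h2 => final g h1 (by rw [e, hP1]; exact h1) h2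
  have hw1 : w ≠ 1 := fun e => hone' v fun g h1 h2 => final g h1 h2 (by rw [e, hP1]; exact h1)
  have hvw' : v ≠ w := fun e => hone' v fun g h1 h2 => final g h1 h2 (by rw [← e]; exact h2)
  let T : Finset N := {1, v, w, v * w}
  refine ⟨{x | ∃ n ∈ T, P n = x}, fun g hg => ?_⟩
  obtain ⟨k, hk, hka⟩ := htr (g.1 a₀)
  let f : N → N := fun n => ⟨k, hk⟩ *
    ⟨k⁻¹ * g * n * (k⁻¹ * g)⁻¹, ‹N.Normal›.conj_mem n n.2 _⟩
  have hf : ∀ n, P (f n) = g.1 (P n) := by
    intro n
    show (k * (k⁻¹ * g * n * (k⁻¹ * g)⁻¹) : G).1 a₀ = g.1 ((n : G).1 a₀)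
    rw [show k * (k⁻¹ * g * n * (k⁻¹ * g)⁻¹) = g * n * (g⁻¹ * k) by group]
    show g.1 ((n : G).1 (g.1⁻¹ (k.1 a₀))) = _
    rw [hka]; simp
  have hfinj : Function.Injective f := fun n m e => by
    have := congrArg P e
    rw [hf, hf] at this
    exact hfree n m (g.1.injective this)
  have hfmul : ∀ a b c d : N, a * d = b * c → f a * f d = f b * f c := by
    intro a b c d e
    have : ∀ a d : N, f a * f d = ⟨k, hk⟩ * ⟨k, hk⟩ *
        ⟨k⁻¹ * g * (a * d : N) * (k⁻¹ * g)⁻¹, ‹N.Normal›.conj_mem _ (a * d).2 _⟩ := by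
      intro a d
      show _ * _ * (_ * _) = _
      rw [mul_mul_mul_comm]
      refine congrArg _ (Subtype.ext ?_)
      show k⁻¹ * g * a * (k⁻¹ * g)⁻¹ * (k⁻¹ * g * d * (k⁻¹ * g)⁻¹) = k⁻¹ * g * (a * d) * (k⁻¹ * g)⁻¹
      group
    rw [this, this]; simp only [e]
  have hmem : ∀ n ∈ T, f n ∈ T := by
    intro n hn
    obtain ⟨m, hm, e⟩ := (hg (P n)).1 ⟨n, hn, rfl⟩
    rw [← hf] at e
    rwa [← hfree m (f n) e]
  have hNodd : Odd (Nat.card N) := hodd.of_dvd_nat N.card_subgroup_dvd_card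
  have hd12 : (1 : N) ≠ v * w := by
    intro e
    exact hone' v fun g h1 h2 => final g h1 h2 (by
      have hwv : w = v⁻¹ := (inv_eq_of_mul_eq_one_right e.symm).symm
      have hc := fixcomm g h1 v h2
      have hP : ∀ n : N, g * n * g⁻¹ = n → g.1 (P n) = P n := fun n hn => by
        conv_rhs => rw [show P n = (n : G).1 a₀ from rfl, ← hn]
        show _ = g.1 ((n : G).1 (g.1⁻¹ a₀))
        rw [Equiv.Perm.inv_eq_iff_eq.2 h1.symm]
      refine hP w ?_
      rw [hwv, Subgroup.coe_inv]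
      calc g * (v : G)⁻¹ * g⁻¹ = (g * v * g⁻¹)⁻¹ := by group
        _ = _ := by rw [hc])
  have hall : f 1 * f (v * w) * (f v * f w) = v * w * (v * w) := by
    have h1 : T.image f = T := Finset.eq_of_subset_of_card_le
      (Finset.image_subset_iff.2 hmem) (by rw [Finset.card_image_of_injective _ hfinj])
    have hprod : ∀ φ : N → N, ∏ n ∈ T, φ n = φ 1 * φ (v * w) * (φ v * φ w) := by
      intro φ
      have n1 : (1 : N) ∉ ({v, w, v * w} : Finset N) := by
        simp [Ne.symm hv1, Ne.symm hw1, hd12]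
      have n2 : v ∉ ({w, v * w} : Finset N) := by simp [hvw', hw1]
      have n3 : w ∉ ({v * w} : Finset N) := by simp [hv1]
      simp only [T]
      rw [Finset.prod_insert n1, Finset.prod_insert n2, Finset.prod_insert n3, Finset.prod_singleton]
      ac_rfl
    have h2 : ∏ n ∈ T.image f, id n = ∏ n ∈ T, f n := Finset.prod_image fun a _ b _ e => hfinj e
    rw [h1, hprod id, hprod f] at h2
    simp only [id, one_mul] at h2
    exact h2.symm
  have hpair : f 1 * f (v * w) = v * w := by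
    refine sq_injective hNodd ?_
    rw [pow_two, pow_two, ← hall, hfmul 1 v w (v * w) (one_mul _)]
  have hTmem : ∀ {x}, x ∈ T ↔ x = 1 ∨ x = v ∨ x = w ∨ x = v * w := by simp [T]
  have key : ∀ a b : N, a ∈ T → b ∈ T → a ≠ b → a * b = v * w →
      (a = 1 ∧ b = v * w) ∨ (a = v * w ∧ b = 1) ∨ (a = v ∧ b = w) ∨ (a = w ∧ b = v) := by
    intro a b ha hb hne hab'
    rcases hTmem.1 ha with rfl | rfl | rfl | rfl
    · exact Or.inl ⟨rfl, by simpa using hab'⟩
    · exact Or.inr (Or.inr (Or.inl ⟨rfl, mul_left_cancel hab'⟩))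
    · exact Or.inr (Or.inr (Or.inr ⟨rfl, mul_left_cancel (hab'.trans (mul_comm v w))⟩))
    · exact Or.inr (Or.inl ⟨rfl, by simpa using hab'⟩)
  have hT1 : (1 : N) ∈ T := hTmem.2 (Or.inl rfl)
  have hTv : v ∈ T := hTmem.2 (Or.inr (Or.inl rfl))
  have hTw : w ∈ T := hTmem.2 (Or.inr (Or.inr (Or.inl rfl)))
  have hTd : v * w ∈ T := hTmem.2 (Or.inr (Or.inr (Or.inr rfl)))
  have kA := key _ _ (hmem _ hT1) (hmem _ hTd) (fun e => hd12 (hfinj e)) hpair
  have kB := key _ _ (hmem _ hTv) (hmem _ hTw) (fun e => hvw' (hfinj e))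
    ((hfmul 1 v w (v * w) (one_mul _)).symm.trans hpair)
  have hA : (f 1 = 1 ∨ f 1 = v * w) ∧ (f (v * w) = 1 ∨ f (v * w) = v * w) := by
    by_contra hA
    have hA' : (f 1 = v ∨ f 1 = w) ∧ (f (v * w) = v ∨ f (v * w) = w) := by
      rcases kA with h | h | h | h
      · exact absurd ⟨Or.inl h.1, Or.inr h.2⟩ hA
      · exact absurd ⟨Or.inr h.1, Or.inl h.2⟩ hA
      · exact ⟨Or.inl h.1, Or.inr h.2⟩
      · exact ⟨Or.inr h.1, Or.inl h.2⟩
    have hB' : (f v = 1 ∨ f v = v * w) ∧ (f w = 1 ∨ f w = v * w) := by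
      rcases kB with h | h | h | h
      · exact ⟨Or.inl h.1, Or.inr h.2⟩
      · exact ⟨Or.inr h.1, Or.inl h.2⟩
      · exfalso
        rcases hA'.1 with e | e
        · exact hv1 (hfinj (h.1.trans e.symm))
        · exact hw1 (hfinj (h.2.trans e.symm))
      · exfalso
        rcases hA'.1 with e | e
        · exact hw1 (hfinj (h.2.trans e.symm))
        · exact hv1 (hfinj (h.1.trans e.symm))
    have hord2 : (g.1 * g.1) ^ Nat.card G = 1 := by
      rw [← pow_two, ← pow_mul, mul_comm, pow_mul, hord, one_pow]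
    have hff : ∀ n, n = 1 ∨ n = v * w → f (f n) = 1 ∨ f (f n) = v * w := by
      intro n hn
      rcases hn with rfl | rfl
      · rcases hA'.1 with e | e <;> rw [e]
        exacts [hB'.1, hB'.2]
      · rcases hA'.2 with e | e <;> rw [e]
        exacts [hB'.1, hB'.2]
    have h1 : (g.1 * g.1) (P 1) = P 1 ∧ (g.1 * g.1) (P (v * w)) = P (v * w) := by
      refine fix_pair hodd hord2 ?_ ?_ <;>
        rw [Equiv.Perm.mul_apply, ← hf, ← hf]
      · exact (hff 1 (Or.inl rfl)).imp (congrArg P) (congrArg P)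
      · exact (hff _ (Or.inr rfl)).imp (congrArg P) (congrArg P)
    have h2 := fix_of_apply_apply hodd (hord g) h1.1
    rw [← hf] at h2
    have h3 := hfree _ _ h2
    rcases hA'.1 with e | e
    · exact hv1 (e.symm.trans h3)
    · exact hw1 (e.symm.trans h3)
  have hBs : (f v = v ∨ f v = w) ∧ (f w = v ∨ f w = w) := by
    rcases kB with h | h | h | h
    · exfalso
      rcases hA.1 with e | e
      · exact hv1 (hfinj (h.1.trans e.symm))
      · exact hw1 (hfinj (h.2.trans e.symm))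
    · exfalso
      rcases hA.1 with e | e
      · exact hw1 (hfinj (h.2.trans e.symm))
      · exact hv1 (hfinj (h.1.trans e.symm))
    · exact ⟨Or.inl h.1, Or.inr h.2⟩
    · exact ⟨Or.inr h.1, Or.inl h.2⟩
  have fA := fix_pair hodd (hord g) (a := P 1) (d := P (v * w))
    ((hA.1).imp (fun e => by rw [← hf, e]) (fun e => by rw [← hf, e]))
    ((hA.2).imp (fun e => by rw [← hf, e]) (fun e => by rw [← hf, e]))
  have fB := fix_pair hodd (hord g) (a := P v) (d := P w)
    ((hBs.1).imp (fun e => by rw [← hf, e]) (fun e => by rw [← hf, e]))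
    ((hBs.2).imp (fun e => by rw [← hf, e]) (fun e => by rw [← hf, e]))
  exact final g fA.1 fB.1 fB.2

/-- The action on an invariant subset. -/
def resPerm {Ω : Type*} {X : Type*} [Group X] (φ : X →* Equiv.Perm Ω) (D : Set Ω)
    (h : ∀ g x, φ g x ∈ D ↔ x ∈ D) : X →* Equiv.Perm D where
  toFun g := (φ g).subtypePerm (h g)
  map_one' := by ext x; simp
  map_mul' a b := by
    ext x
    simp only [map_mul]
    rfl

/-- Every permutation group of odd order has a subset with trivial stabilizer, if smaller modules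
have bases of size two. -/
theorem exists_subset : ∀ (n : ℕ), SmallBase.{u, u} (n + 1) →
    ∀ (X : Type u) [Group X] [Finite X], Odd (Nat.card X) →
    ∀ (Ω : Type u) [Finite Ω], Nat.card Ω ≤ n → ∀ φ : X →* Equiv.Perm Ω,
      ∃ S : Set Ω, ∀ g, (∀ x, x ∈ S ↔ φ g x ∈ S) → φ g = 1 := by
  intro n
  induction n using Nat.strong_induction_on with
  | _ n ih =>
  intro IH X _ _ hX Ω _ hΩ φ
  classical
  set G : Subgroup (Equiv.Perm Ω) := φ.range with hG
  have hGodd : Odd (Nat.card G) := hX.of_dvd_nat (Subgroup.card_range_dvd φ)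
  suffices h : ∃ S : Set Ω, ∀ g : G, (∀ x, x ∈ S ↔ g.1 x ∈ S) → g = 1 by
    obtain ⟨S, hS⟩ := h
    exact ⟨S, fun g hg => congrArg Subtype.val (hS ⟨φ g, g, rfl⟩ hg)⟩
  by_cases hbot : ∀ g : G, g = 1
  · exact ⟨∅, fun g _ => hbot g⟩
  by_cases hint : ∃ D : Set Ω, D.Nonempty ∧ D ≠ Set.univ ∧ ∀ (g : G) x, g.1 x ∈ D ↔ x ∈ D
  · obtain ⟨D, hDne, hDu, hD⟩ := hint
    have hsum : Nat.card D + Nat.card (Dᶜ : Set Ω) = Nat.card Ω := by
      rw [Nat.card_coe_set_eq, Nat.card_coe_set_eq, Set.ncard_add_ncard_compl]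
    have h1 : 0 < Nat.card D := by
      haveI := hDne.to_subtype; exact Nat.card_pos
    have h2 : 0 < Nat.card (Dᶜ : Set Ω) := by
      haveI := (Set.nonempty_compl.2 hDu).to_subtype; exact Nat.card_pos
    have hDc : ∀ (g : G) x, G.subtype g x ∈ Dᶜ ↔ x ∈ Dᶜ := fun g x => not_congr (hD g x)
    obtain ⟨S, hS⟩ := ih (Nat.card D) (by omega) (IH.mono (by omega)) G hGodd D le_rfl
      (resPerm G.subtype D hD)
    obtain ⟨T, hT⟩ := ih (Nat.card (Dᶜ : Set Ω)) (by omega) (IH.mono (by omega)) G hGodd _ le_rfl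
      (resPerm G.subtype Dᶜ hDc)
    refine ⟨{x | (∃ h : x ∈ D, (⟨x, h⟩ : D) ∈ S) ∨ ∃ h : x ∈ Dᶜ, (⟨x, h⟩ : (Dᶜ : Set Ω)) ∈ T},
      fun g hg => ?_⟩
    have e1 : resPerm G.subtype D hD g = 1 := hS g fun x => by
      have hgx : g.1 x.1 ∈ D := (hD g x.1).2 x.2
      constructor
      · intro hx
        rcases (hg x.1).1 (Or.inl ⟨x.2, hx⟩) with ⟨h, h'⟩ | ⟨h, _⟩
        · exact h'
        · exact absurd hgx h
      · intro hx
        rcases (hg x.1).2 (Or.inl ⟨hgx, hx⟩) with ⟨h, h'⟩ | ⟨h, _⟩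
        · exact h'
        · exact absurd x.2 h
    have e2 : resPerm G.subtype Dᶜ hDc g = 1 := hT g fun x => by
      have hgx : g.1 x.1 ∈ Dᶜ := (hDc g x.1).2 x.2
      constructor
      · intro hx
        rcases (hg x.1).1 (Or.inr ⟨x.2, hx⟩) with ⟨h, _⟩ | ⟨h, h'⟩
        · exact absurd h hgx
        · exact h'
      · intro hx
        rcases (hg x.1).2 (Or.inr ⟨hgx, hx⟩) with ⟨h, _⟩ | ⟨h, h'⟩
        · exact absurd h x.2
        · exact h'
    apply Subtype.ext
    ext x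
    by_cases hx : x ∈ D
    · exact congrArg (fun f : Equiv.Perm D => ((f ⟨x, hx⟩ : D) : Ω)) e1
    · exact congrArg (fun f : Equiv.Perm (Dᶜ : Set Ω) => ((f ⟨x, hx⟩ : (Dᶜ : Set Ω)) : Ω)) e2
  push Not at hint
  push Not at hbot
  obtain ⟨g₁, hg₁⟩ := hbot
  haveI : Group.IsSolvable G := CfsgLib.OddOrder.odd_order_solvable hGodd
  haveI : Nontrivial G := ⟨⟨g₁, 1, hg₁⟩⟩
  obtain ⟨N, ⟨hN, hNne⟩, hmin⟩ := (Set.toFinite {N : Subgroup G | N.Normal ∧ N ≠ ⊥}).exists_minimal
    ⟨⊤, inferInstance, top_ne_bot⟩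
  haveI := hN
  have hmin' : ∀ M : Subgroup G, M.Normal → M ≤ N → M = ⊥ ∨ M = N := fun M hM hle =>
    or_iff_not_imp_left.2 fun hMne => le_antisymm hle (hmin ⟨hM, hMne⟩ hle)
  have hab : ∀ a ∈ N, ∀ b ∈ N, a * b = b * a := by
    have h : ⁅N, N⁆ = ⊥ := by
      refine (hmin' _ (Subgroup.commutator_normal N N) (Subgroup.commutator_le_left N N)).resolve_right
        (Group.IsSolvable.commutator_lt_of_ne_bot hNne).ne
    intro a ha b hb
    have := Subgroup.commutator_mem_commutator ha hb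
    rw [h, Subgroup.mem_bot] at this
    exact commutatorElement_eq_one_iff_mul_comm.1 this
  haveI : Nontrivial N := (Subgroup.nontrivial_iff_ne_bot N).2 hNne
  obtain ⟨⟨n₁, hn₁⟩, hn₁1⟩ := exists_ne (1 : N)
  have hn₁' : n₁ ≠ 1 := fun h => hn₁1 (Subtype.ext h)
  obtain ⟨a₀, ha₀⟩ : ∃ a, n₁.1 a ≠ a := by
    by_contra h
    push Not at h
    exact hn₁' (Subtype.ext (Equiv.ext h))
  have htr : ∀ b, ∃ g : G, g.1 a₀ = b := fun b => by
    have := hint {x | ∃ g : G, g.1 a₀ = x} ⟨a₀, 1, rfl⟩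
    by_contra hb
    obtain ⟨g, x, hgx⟩ := this fun e => hb (e ▸ Set.mem_univ b : b ∈ {x | ∃ g : G, g.1 a₀ = x})
    apply hgx.elim
    · rintro ⟨⟨k, hk⟩, hno⟩
      exact hno ⟨g⁻¹ * k, by show g.1⁻¹ (k.1 a₀) = x; rw [hk]; simp⟩
    · rintro ⟨hno, k, hk⟩
      exact hno ⟨g * k, by show g.1 (k.1 a₀) = _; rw [hk]⟩
  let r : Setoid Ω :=
    { r := fun a b => ∃ m ∈ N, m.1 a = b
      iseqv := ⟨fun a => ⟨1, N.one_mem, rfl⟩, fun {a b} ⟨m, hm, e⟩ => ⟨m⁻¹, N.inv_mem hm, by
        show m.1⁻¹ b = a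
        rw [← e]; simp⟩, fun {a b c} ⟨m, hm, e⟩ ⟨m', hm', e'⟩ => ⟨m' * m, N.mul_mem hm' hm, by
        show m'.1 (m.1 a) = c
        rw [e, e']⟩⟩ }
  by_cases hreg : ∀ b, ∃ m ∈ N, m.1 a₀ = b
  · exact exists_subset_regular G hGodd N hab hmin' a₀ hreg (IH.mono (by omega))
  push Not at hreg
  obtain ⟨b₀, hb₀⟩ := hreg
  let Q := Quotient r
  let π : Ω → Q := Quotient.mk r
  have hπ : ∀ a b, π a = π b ↔ ∃ m ∈ N, m.1 a = b := fun a b => Quotient.eq
  let ψf : G → Q → Q := fun g => Quotient.map g.1 fun a b => by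
    rintro ⟨m, hm, e⟩
    exact ⟨g * m * g⁻¹, hN.conj_mem m hm g, by
      show g.1 (m.1 (g.1⁻¹ (g.1 a))) = g.1 b
      simp [e]⟩
  have hψf : ∀ g a, ψf g (π a) = π (g.1 a) := fun g a => rfl
  let ψ : G →* Equiv.Perm Q :=
    { toFun := fun g =>
        { toFun := ψf g
          invFun := ψf g⁻¹
          left_inv := fun c => by
            induction c using Quotient.inductionOn with
            | h a => show π ((g⁻¹).1 (g.1 a)) = π a; simp
          right_inv := fun c => by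
            induction c using Quotient.inductionOn with
            | h a => show π (g.1 ((g⁻¹).1 a)) = π a; simp }
      map_one' := Equiv.ext fun c => by
        induction c using Quotient.inductionOn with
        | h a => rfl
      map_mul' := fun g h => Equiv.ext fun c => by
        induction c using Quotient.inductionOn with
        | h a => rfl }
  have hψ : ∀ g a, ψ g (π a) = π (g.1 a) := fun g a => rfl
  haveI : Fintype Ω := Fintype.ofFinite Ω
  have hQlt : Nat.card Q < Nat.card Ω := by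
    haveI : Fintype Q := Fintype.ofFinite Q
    rw [Nat.card_eq_fintype_card, Nat.card_eq_fintype_card]
    exact Fintype.card_lt_of_surjective_not_injective π Quotient.exists_rep fun hinj =>
      ha₀ (hinj ((hπ _ _).2 ⟨n₁, hn₁, rfl⟩)).symm
  obtain ⟨R, hR⟩ := ih (Nat.card Q) (by omega) (IH.mono (by omega)) G hGodd Q le_rfl ψ
  let D : Set Ω := {x | π x = π a₀}
  have hDlt : Nat.card D < Nat.card Ω := by
    rw [Nat.card_coe_set_eq, ← Set.ncard_univ]
    refine Set.ncard_lt_ncard ⟨Set.subset_univ _, fun h => ?_⟩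
    obtain ⟨m, hm, e⟩ := (hπ _ _).1 (h (Set.mem_univ b₀)).symm
    exact hb₀ m hm e
  let H : Subgroup G :=
    { carrier := {g | ψ g (π a₀) = π a₀}
      one_mem' := by simp
      mul_mem' := fun {g h} hg hh => by
        show ψ (g * h) _ = _
        rw [map_mul, Equiv.Perm.mul_apply, show ψ h _ = _ from hh]; exact hg
      inv_mem' := fun {g} hg => by
        show ψ g⁻¹ _ = _
        rw [map_inv, Equiv.Perm.inv_eq_iff_eq]
        exact (show ψ g _ = _ from hg).symm }
  have hHD : ∀ (h : H) x, (G.subtype.comp H.subtype) h x ∈ D ↔ x ∈ D := fun h x => by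
    show π ((h : G).1 x) = π a₀ ↔ π x = π a₀
    rw [← hψ]
    exact ⟨fun e => (ψ (h : G)).injective (e.trans (show ψ (h : G) _ = _ from h.2).symm),
      fun e => e.symm ▸ h.2⟩
  obtain ⟨S, hS⟩ := ih (Nat.card D) (by omega) (IH.mono (by omega)) H
    (hGodd.of_dvd_nat H.card_subgroup_dvd_card) D le_rfl (resPerm (G.subtype.comp H.subtype) D hHD)
  have hDodd : Odd (Nat.card D) := by
    have e : D = MulAction.orbit N a₀ := by
      ext x
      show π x = π a₀ ↔ x ∈ MulAction.orbit N a₀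
      rw [eq_comm, hπ, MulAction.mem_orbit_iff]
      exact ⟨fun ⟨m, hm, e⟩ => ⟨⟨m, hm⟩, e⟩, fun ⟨m, e⟩ => ⟨m.1, m.2, e⟩⟩
    rw [e]
    refine (hGodd.of_dvd_nat N.card_subgroup_dvd_card).of_dvd_nat ?_
    rw [Nat.card_coe_set_eq, ← MulAction.index_stabilizer]
    exact Subgroup.index_dvd_card _
  have hlift : ∀ c : Q, ∃ t : G, π (t.1 a₀) = c := fun c => by
    induction c using Quotient.inductionOn with
    | h a => obtain ⟨t, ht⟩ := htr a; exact ⟨t, congrArg π ht⟩
  choose t ht using hlift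
  have hback : ∀ x, (t (π x)).1⁻¹ x ∈ D := fun x => by
    show π _ = π a₀
    apply (ψ (t (π x))).injective
    rw [hψ, hψ, ht]; simp
  refine ⟨{x | π x ∈ R ↔ (⟨_, hback x⟩ : D) ∈ S}, fun g hg => ?_⟩
  have key : ∀ c : Q, ∃ hh : (t (ψ g c))⁻¹ * g * t c ∈ H, ∀ x : D,
      ((c ∈ R ↔ x ∈ S) ↔ (ψ g c ∈ R ↔ resPerm (G.subtype.comp H.subtype) D hHD ⟨_, hh⟩ x ∈ S)) := by
    intro c
    have hh : (t (ψ g c))⁻¹ * g * t c ∈ H := by
      show ψ _ (π a₀) = π a₀
      rw [map_mul, map_mul, map_inv, Equiv.Perm.mul_apply, Equiv.Perm.mul_apply, hψ (t c), ht,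
        Equiv.Perm.inv_eq_iff_eq, hψ (t (ψ g c)), ht]
    refine ⟨hh, fun x => ?_⟩
    have hπx : π ((t c).1 x.1) = c := by rw [← hψ, show π x.1 = π a₀ from x.2, hψ, ht]
    have hπg : π (g.1 ((t c).1 x.1)) = ψ g c := by rw [← hψ, hπx]
    have h1 := hg ((t c).1 x.1)
    simp only [Set.mem_ofPred_eq] at h1
    have ex : (⟨_, hback ((t c).1 x.1)⟩ : D) = x := Subtype.ext (by
      show (t (π _)).1⁻¹ _ = _
      rw [hπx]; simp)
    have eg : (⟨_, hback (g.1 ((t c).1 x.1))⟩ : D) =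
        resPerm (G.subtype.comp H.subtype) D hHD ⟨_, hh⟩ x := Subtype.ext (by
      show (t (π _)).1⁻¹ _ = ((t (ψ g c))⁻¹ * g * t c : G).1 x.1
      rw [hπg]; rfl)
    rw [ex, eg, hπx, hπg] at h1
    exact h1
  have hR' : ∀ c, c ∈ R ↔ ψ g c ∈ R := by
    intro c
    obtain ⟨hh, hk⟩ := key c
    set e := resPerm (G.subtype.comp H.subtype) D hHD ⟨_, hh⟩
    by_contra hne
    have hne' : ∀ x : D, x ∈ S ↔ e x ∉ S := fun x => by have := hk x; tauto
    have heq : Nat.card S = Nat.card (Sᶜ : Set D) :=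
      Nat.card_congr (e.subtypeEquiv fun x => hne' x)
    rw [Nat.card_coe_set_eq, Nat.card_coe_set_eq] at heq
    rw [← Set.ncard_add_ncard_compl S, ← heq] at hDodd
    exact (Nat.not_even_iff_odd.2 hDodd) ⟨_, rfl⟩
  have hψg := hR g hR'
  apply Subtype.ext
  ext x
  obtain ⟨hh, hk⟩ := key (π x)
  have hid : resPerm (G.subtype.comp H.subtype) D hHD ⟨_, hh⟩ = 1 := hS _ fun y => by
    have := hk y
    have := hR' (π x)
    tauto
  have := congrArg (fun f : Equiv.Perm D => ((f ⟨_, hback x⟩ : D) : Ω)) hid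
  simp only [Equiv.Perm.one_apply] at this
  change (t (ψ g (π x))).1⁻¹ (g.1 ((t (π x)).1 ((t (π x)).1⁻¹ x))) = (t (π x)).1⁻¹ x at this
  rw [hψg, Equiv.Perm.one_apply] at this
  simpa using this

end CfsgLib.OddBase
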